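import Groth.Agent.VecBal.K675.FreeCover

/-!
# J1: effectivity of a polarized descent datum over an affine base

`main : Groth.Agent.VecBal.K812.Iface.PolAffStmt`: a descent datum `D` along a flat surjective morphism of affine schemes
with `D.obj` proper, flat, locally of finite presentation with geometrically connected and reduced fibres and an ample `L`
isomorphic to its transports (no cocycle condition) is effective.

Plan: `f_* L^n` is locally free for `n ≫ 0`, its rank is constant along the fibres of the cover, so locally on the base and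
after a flat cover it is free of rank `N`. The comparison of the two pullbacks of `L` has a cocycle up to a unit; the
`N`-th power corrected by the determinant on `f_* L^n` is an honest descent datum on `L^{nN}`.
-/

set_option autoImplicit false
universe u

open CategoryTheory CategoryTheory.Limits AlgebraicGeometry TopologicalSpace Opposite

namespace Groth.Agent.VecBal.K675.PolAff

open _root_.K675.Pol _root_.K675.PullDD
open Groth.Agent.Fdesc.LocGen Groth.Agent.Flat2H.FamExt Groth.Agent.Flat2H.FamDict Groth.Agent.Flat2H.FamOpen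
open _root_.K675.Pol.Line
open _root_.Desc _root_.K388.DDGrpd Groth.Agent.Desc.StableDD Groth.Agent.VecBal.K812.Iface

/-- without sections there are no points -/
theorem isEmpty_of_zero {C T : Scheme.{u}} {ι : Type} {ℓ : Line C ι} (v : T ⟶ C)
    (hgg : ∀ y : C, ∃ (c : ℓ.Sec (𝟙 C)) (j : ι), y ∈ C.basicOpen (c.1 j)) (h : ∀ c : ℓ.Sec v, c = 0) : IsEmpty T := by
  refine ⟨fun t => ?_⟩
  obtain ⟨c, j, hj⟩ := hgg (v t)
  have h1 : t ∈ T.basicOpen ((ℓ.pull v (Category.comp_id v) c).1 j) := by
    rw [pull_val, pb_basicOpen]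
    exact ⟨(C.basicOpen_le _ hj : v t ∈ ℓ.W j), hj⟩
  rw [h (ℓ.pull v (Category.comp_id v) c), zero_val, Scheme.basicOpen_zero] at h1
  exact h1

theorem flat_of_comp_mono {X Y Z : Scheme.{u}} (f : X ⟶ Y) (i : Y ⟶ Z) [Mono i] (h : Flat (f ≫ i)) : Flat f := by
  have sq : IsPullback f (𝟙 X) i (f ≫ i) := by
    refine ⟨⟨(Category.id_comp _).symm⟩, ⟨PullbackCone.IsLimit.mk _ (fun s => s.snd) (fun s => ?_)
      (fun s => Category.comp_id _) (fun s m h1 h2 => ?_)⟩⟩
    · rw [← cancel_mono i, s.condition, Category.assoc]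
    · exact (Category.comp_id m).symm.trans h2
  exact MorphismProperty.of_isPullback (P := @Flat) sq.flip h

theorem main : PolAffStmt.{u} := by
  intro X S p hX hS hflat hsurj D hprop hfl hlfp hgc hgr L hA hP
  have : CompactSpace D.obj.left := hA.2.1
  have hqs : QuasiSeparatedSpace D.obj.left := Groth.Agent.Fdesc.LocGen.quasiSeparatedSpace_of_isAmple hA
  obtain ⟨m, W, g, hWa, h⟩ := exists_trivs hA.1 (fun U => IsAffineOpen U) (fun U x hx => by
    obtain ⟨V, hV, hxV, hle⟩ := exists_isAffineOpen_mem_and_subset (U := U) hx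
    exact ⟨V, hxV, hle, hV⟩)
  have hWc : ∀ j, IsCompact (W j : Set D.obj.left) := fun j => (hWa j).isCompact
  obtain ⟨d₀, hd⟩ := finite_projective D.obj.hom hA h
  obtain ⟨n, hn, hdn, hgg⟩ := exists_gg hA h d₀
  have hfp := hd n hdn
  obtain ⟨Ψ⟩ := exists_tr_of_polDatum hP h
  refine effective_of_local D fun s => ?_
  obtain ⟨N, S₀, hs, hS₀, hN⟩ := exists_local p (rk_isLocallyConstant hfp)
    (fun {x y} e => rk_fib (Ψ.pow n) hWc hfp e) s
  have hO : IsCompact ((p ⁻¹ᵁ S₀ : X.Opens) : Set X) := (hS₀.preimage p).isCompact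
  obtain ⟨X₀, a, hX₀, hfa, hra, b, hb⟩ := exists_free_cover ((lineOf h).pow n) D.obj.hom hWc hfp N (p ⁻¹ᵁ S₀) hO
    (fun x hx => hN x hx)
  have hrange : Set.range (a ≫ p) ⊆ Set.range S₀.ι := by
    rw [Scheme.Opens.range_ι]
    rintro _ ⟨x, rfl⟩
    have h1 : a x ∈ (p ⁻¹ᵁ S₀ : X.Opens) := by
      have : a x ∈ Set.range a := ⟨x, rfl⟩
      rw [hra] at this
      exact this
    exact h1
  let p₀ : X₀ ⟶ S₀.toScheme := IsOpenImmersion.lift S₀.ι (a ≫ p) hrange
  have ha : p₀ ≫ S₀.ι = a ≫ p := IsOpenImmersion.lift_fac _ _ _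
  have hS₀' : IsAffine S₀.toScheme := hS₀
  have hfl₀ : Flat p₀ := by
    have h1 : Flat (p₀ ≫ S₀.ι) := by rw [ha]; infer_instance
    exact flat_of_comp_mono p₀ S₀.ι h1
  have hsurj₀ : Surjective p₀ := ⟨fun y => by
    obtain ⟨x, hx⟩ := p.surjective (S₀.ι y)
    have hx' : x ∈ ((p ⁻¹ᵁ S₀ : X.Opens) : Set X) := by
      change p x ∈ S₀
      rw [hx]
      exact y.2
    rw [← hra] at hx'
    obtain ⟨x₀, rfl⟩ := hx'
    refine ⟨x₀, S₀.ι.injective ?_⟩
    rw [← hx, ← Scheme.Hom.comp_apply, ha, Scheme.Hom.comp_apply]⟩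
  refine ⟨S₀, X₀, a, p₀, ha, hs, hS₀, hX₀, hfl₀, hsurj₀, ?_⟩
  rcases Nat.eq_zero_or_pos N with rfl | hNpos
  · have hempty : IsEmpty (pullback D.obj.hom a : Scheme.{u}) := isEmpty_of_zero (ℓ := (lineOf h).pow n) _ hgg
      (fun c => by
        obtain ⟨x, hx⟩ := hb.span c
        rw [hx]
        exact Finset.sum_empty)
    have h1 : IsAffine (pullback D.obj.hom a : Scheme.{u}) := inferInstance
    have h2 : IsAffineHom (D0 ha D).obj.hom :=
      isAffineHom_of_isAffine (X := (pullback D.obj.hom a : Scheme.{u})) (Y := X₀) _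
    exact Groth.Agent.Desc.AffineEff.affine_effective p₀ (D0 ha D)
  · obtain ⟨e, he⟩ := exists_pullEquiv h (pullback.fst D.obj.hom a) n
    have hb' := hb.equiv e he
    have h1 : IsProper (D0 ha D).obj.hom := MorphismProperty.pullback_snd (P := @IsProper) _ _ hprop
    have h2 : Flat (D0 ha D).obj.hom := MorphismProperty.pullback_snd (P := @Flat) _ _ hfl
    have h3 : LocallyOfFinitePresentation (D0 ha D).obj.hom :=
      MorphismProperty.pullback_snd (P := @LocallyOfFinitePresentation) _ _ hlfp
    have h4 : GeometricallyConnected (D0 ha D).obj.hom :=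
      MorphismProperty.pullback_snd (P := @GeometricallyConnected) _ _ hgc
    have h5 : GeometricallyReduced (D0 ha D).obj.hom :=
      MorphismProperty.pullback_snd (P := @GeometricallyReduced) _ _ hgr
    have h6 : IsAffineHom a := inferInstance
    have h7 : IsAffineHom (pullback.fst D.obj.hom a) := MorphismProperty.pullback_fst _ _ h6
    have hA₀ : CohB1.IsAmple ((Scheme.Modules.pullback (pullback.fst D.obj.hom a)).obj L) :=
      isAmple_pullback_of_isAffineHom _ hA
    exact effective_of_free (D := D0 ha D) hA₀ (polDatum_D0 ha D hP) (h.pullback (pullback.fst D.obj.hom a))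
      (fun j => ((hWa j).preimage (pullback.fst D.obj.hom a)).isCompact) n hn N hNpos _ hb'

end Groth.Agent.VecBal.K675.PolAff
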