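import Mathlib.RingTheory.Spectrum.Prime.FreeLocus
import Mathlib.RingTheory.TensorProduct.IsBaseChangeFree
import Mathlib.LinearAlgebra.TensorProduct.Pi
import Mathlib.RingTheory.Flat.LocallyFree
import Mathlib.RingTheory.Flat.Localization

/-!
# A flat cover making a projective module free
-/

set_option autoImplicit false
universe u

open TensorProduct PrimeSpectrum

namespace K675.Pol

section Pi

variable (A : Type u) [CommRing A] {t : Type u} [Fintype t] (B : t → Type u) [∀ i, CommRing (B i)]
  [∀ i, Algebra A (B i)] (H : Type u) [AddCommGroup H] [Module A H]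

/-- the comparison map -/
noncomputable def toPi : (∀ i, B i) ⊗[A] H →ₗ[∀ i, B i] (∀ i, B i ⊗[A] H) :=
  (TensorProduct.isBaseChange A H (∀ i, B i)).lift
    (LinearMap.pi fun i => TensorProduct.mk A (B i) H 1 : H →ₗ[A] ∀ i, B i ⊗[A] H)

theorem toPi_tmul (b : ∀ i, B i) (h : H) : toPi A B H (b ⊗ₜ h) = fun i => b i ⊗ₜ h := by
  have h1 : b ⊗ₜ[A] h = b • ((1 : ∀ i, B i) ⊗ₜ[A] h) := by rw [TensorProduct.smul_tmul', smul_eq_mul, mul_one]
  rw [h1, map_smul]
  have h2 : toPi A B H ((1 : ∀ i, B i) ⊗ₜ[A] h) = fun i => (1 : B i) ⊗ₜ[A] h := by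
    exact (TensorProduct.isBaseChange A H (∀ i, B i)).lift_eq _ h
  rw [h2]
  funext i
  rw [Pi.smul_apply', TensorProduct.smul_tmul', smul_eq_mul, mul_one]

theorem toPi_bijective : Function.Bijective (toPi A B H) := by
  classical
  have h : ∀ x, toPi A B H x = TensorProduct.piLeft A H B x := by
    intro x
    induction x with
    | zero => rw [map_zero, map_zero]
    | add x y hx hy => rw [map_add, map_add, hx, hy]
    | tmul b h =>
      rw [toPi_tmul]
      funext i
      simp
  have h' : ⇑(toPi A B H) = ⇑(TensorProduct.piLeft A H B) := funext h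
  rw [h']
  exact (TensorProduct.piLeft A H B).bijective

theorem basis_pi {N : ℕ} (b : ∀ i, Module.Basis (Fin N) (B i) (B i ⊗[A] H)) :
    Nonempty (Module.Basis (Fin N) (∀ i, B i) ((∀ i, B i) ⊗[A] H)) := by
  let v : Fin N → (∀ i, B i ⊗[A] H) := fun j i => b i j
  have hli : LinearIndependent (∀ i, B i) v := by
    rw [Fintype.linearIndependent_iff]
    intro g hg j
    funext i
    have h1 := congrFun hg i
    rw [Finset.sum_apply] at h1
    exact Fintype.linearIndependent_iff.mp (b i).linearIndependent (fun j => g j i) h1 j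
  have hsp : ⊤ ≤ Submodule.span (∀ i, B i) (Set.range v) := by
    intro c _
    have h1 : c = ∑ j, (fun i => (b i).repr (c i) j : ∀ i, B i) • v j := by
      funext i
      rw [Finset.sum_apply]
      exact ((b i).sum_repr (c i)).symm
    rw [h1]
    exact Submodule.sum_mem _ fun j _ => Submodule.smul_mem _ _ (Submodule.subset_span ⟨j, rfl⟩)
  exact ⟨(Module.Basis.mk hli hsp).map (LinearEquiv.ofBijective (toPi A B H) (toPi_bijective A B H)).symm⟩

end Pi

variable {A : Type u} [CommRing A] (H : Type u) [AddCommGroup H] [Module A H] [Module.Finite A H] [Module.Projective A H]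

theorem exists_away (x : PrimeSpectrum A) (O : Set (PrimeSpectrum A)) (hO : IsOpen O) (hx : x ∈ O) :
    ∃ a : A, x ∈ (basicOpen a : Set (PrimeSpectrum A)) ∧ (basicOpen a : Set (PrimeSpectrum A)) ⊆ O ∧
      Nonempty (Module.Basis (Fin (Module.rankAtStalk H x)) (Localization.Away a) (Localization.Away a ⊗[A] H)) := by
  have : Module.FinitePresentation A H := Module.finitePresentation_of_projective A H
  obtain ⟨_, ⟨f, rfl⟩, hxf, hfO⟩ := isTopologicalBasis_basic_opens.exists_subset_of_mem_open hx hO
  have hfree : Module.Free (Localization.AtPrime x.asIdeal) (LocalizedModule.AtPrime x.asIdeal H) :=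
    Module.free_of_flat_of_isLocalRing
  obtain ⟨r, hr, h1, h2⟩ := Module.FinitePresentation.exists_free_localizedModule_powers
    x.asIdeal.primeCompl (LocalizedModule.mkLinearMap x.asIdeal.primeCompl H) (Localization.AtPrime x.asIdeal)
  let b₀ : Module.Basis (Fin (Module.rankAtStalk H x)) (Localization.Away r) (LocalizedModule.Away r H) := by
    have hu : IsUnit (algebraMap A (Localization.AtPrime x.asIdeal) r) :=
      IsLocalization.map_units (Localization.AtPrime x.asIdeal) (⟨r, hr⟩ : x.asIdeal.primeCompl)
    have : Nontrivial (Localization.Away r) := (IsLocalization.Away.lift (S := Localization.Away r) r hu).domain_nontrivial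
    exact Module.finBasisOfFinrankEq _ _ h2
  let b₁ : Module.Basis (Fin (Module.rankAtStalk H x)) (Localization.Away r) (Localization.Away r ⊗[A] H) :=
    b₀.map (LocalizedModule.equivTensorProduct _ H)
  refine ⟨f * r, ?_, ?_, ?_⟩
  · rw [SetLike.mem_coe, mem_basicOpen]
    exact fun h => (x.isPrime.mem_or_mem h).elim hxf hr
  · refine subset_trans ?_ hfO
    exact basicOpen_mul_le_left f r
  · have hu : IsUnit (algebraMap A (Localization.Away (f * r)) r) :=
      isUnit_of_dvd_unit (map_dvd _ (dvd_mul_left r f)) (IsLocalization.Away.algebraMap_isUnit (f * r))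
    let _ : Algebra (Localization.Away r) (Localization.Away (f * r)) :=
      (IsLocalization.Away.lift (S := Localization.Away r) r hu).toAlgebra
    have _ : IsScalarTower A (Localization.Away r) (Localization.Away (f * r)) :=
      IsScalarTower.of_algebraMap_eq fun a => (IsLocalization.Away.lift_eq (S := Localization.Away r) r hu a).symm
    exact ⟨(b₁.baseChange (Localization.Away (f * r))).map
      (TensorProduct.AlgebraTensorModule.cancelBaseChange A (Localization.Away r) (Localization.Away (f * r))
        (Localization.Away (f * r)) H)⟩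

/-- Over a quasi-compact open of constant rank there is a flat algebra with this image over which `H` is free. -/
theorem exists_cover (O : Set (PrimeSpectrum A)) (hO : IsOpen O) (hc : IsCompact O) (N : ℕ)
    (hN : ∀ x ∈ O, Module.rankAtStalk H x = N) :
    ∃ (B : Type u) (_ : CommRing B) (_ : Algebra A B), Module.Flat A B ∧
      Set.range (PrimeSpectrum.comap (algebraMap A B)) = O ∧ Nonempty (Module.Basis (Fin N) B (B ⊗[A] H)) := by
  classical
  choose a ha haO hab using fun x : O => exists_away H x.1 O hO x.2
  obtain ⟨t, ht⟩ := hc.elim_finite_subcover (fun x : O => (basicOpen (a x) : Set (PrimeSpectrum A)))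
    (fun x => (basicOpen (a x)).isOpen) (fun x hx => Set.mem_iUnion.2 ⟨⟨x, hx⟩, ha ⟨x, hx⟩⟩)
  refine ⟨∀ i : t, Localization.Away (a i.1), inferInstance, inferInstance, ?_, ?_, ?_⟩
  · have : ∀ i : t, Module.Flat A (Localization.Away (a i.1)) := fun i => IsLocalization.flat _ (Submonoid.powers (a i.1))
    exact Module.Flat.of_linearEquiv
      (DFinsupp.linearEquivFunOnFintype (R := A) (M := fun i : t => Localization.Away (a i.1))).symm
  · have h0 : ∀ i : t, Set.range (PrimeSpectrum.comap ((Pi.evalRingHom (fun i : t => Localization.Away (a i.1)) i).comp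
        (algebraMap A (∀ i : t, Localization.Away (a i.1))))) = basicOpen (a i.1) := by
      intro i
      exact PrimeSpectrum.localization_away_comap_range (Localization.Away (a i.1)) (a i.1)
    rw [← iUnion_range_comap_comp_evalRingHom]
    simp only [h0]
    apply Set.Subset.antisymm
    · exact Set.iUnion_subset fun i => haO i.1
    · intro x hx
      obtain ⟨i, hi, hxi⟩ := Set.mem_iUnion₂.1 (ht hx)
      exact Set.mem_iUnion.2 ⟨⟨i, hi⟩, hxi⟩
  · refine basis_pi A (fun i : t => Localization.Away (a i.1)) H fun i => ?_
    have h := hN i.1.1 i.1.2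
    exact (hab i.1).some.reindex (finCongr h)

end K675.Pol
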