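import Mathlib.RingTheory.Flat.IsBaseChange
import Mathlib.RingTheory.TensorProduct.IsBaseChangePi
import Mathlib.Algebra.Category.Ring.Constructions

/-!
# Flat base change of modules of families
-/

set_option autoImplicit false
open CategoryTheory CategoryTheory.Limits
universe u

namespace K675.Pol

theorem ring_bc {A B : Type u} [CommRing A] [CommRing B] [Algebra A B] [Module.Flat A B]
    {ι κ : Type} [Finite ι] [Finite κ]
    {R R' : ι → Type u} {S S' : κ → Type u} [∀ j, CommRing (R j)] [∀ j, CommRing (R' j)]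
    [∀ j, CommRing (S j)] [∀ j, CommRing (S' j)]
    (x : ∀ j, A →+* R j) (x' : ∀ j, B →+* R' j) (α : ∀ j, R j →+* R' j)
    (hα : ∀ j, IsPushout (CommRingCat.ofHom (x j)) (CommRingCat.ofHom (algebraMap A B))
      (CommRingCat.ofHom (α j)) (CommRingCat.ofHom (x' j)))
    (y : ∀ j, A →+* S j) (y' : ∀ j, B →+* S' j) (β : ∀ j, S j →+* S' j)
    (hβ : ∀ j, IsPushout (CommRingCat.ofHom (y j)) (CommRingCat.ofHom (algebraMap A B))
      (CommRingCat.ofHom (β j)) (CommRingCat.ofHom (y' j)))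
    (s t : κ → ι)
    (l : ∀ k, R (s k) →+* S k) (r : ∀ k, R (t k) →+* S k) (hl : ∀ k, (l k).comp (x (s k)) = y k)
    (hr : ∀ k, (r k).comp (x (t k)) = y k)
    (l' : ∀ k, R' (s k) →+* S' k) (r' : ∀ k, R' (t k) →+* S' k)
    (hl' : ∀ k, (l' k).comp (x' (s k)) = y' k) (hr' : ∀ k, (r' k).comp (x' (t k)) = y' k)
    (cl : ∀ k, (β k).comp (l k) = (l' k).comp (α (s k)))
    (cr : ∀ k, (β k).comp (r k) = (r' k).comp (α (t k)))
    (g : ∀ k, S k)
    {M N : Type u} [AddCommGroup M] [AddCommGroup N] [Module A M] [Module B N] [Module A N] [IsScalarTower A B N]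
    (φ : M →ₗ[A] N) (i : M →+ ∀ j, R j) (i' : N →+ ∀ j, R' j) (hi : Function.Injective i)
    (hi' : Function.Injective i') (hiA : ∀ (a : A) (m : M) (j : ι), i (a • m) j = x j a * i m j)
    (hiB : ∀ (b : B) (n : N) (j : ι), i' (b • n) j = x' j b * i' n j)
    (hφ : ∀ (m : M) (j : ι), i' (φ m) j = α j (i m j))
    (him : ∀ c, (∀ k, l k (c (s k)) * g k = r k (c (t k))) ↔ ∃ m, i m = c)
    (hin : ∀ c, (∀ k, l' k (c (s k)) * β k (g k) = r' k (c (t k))) ↔ ∃ n, i' n = c) :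
    IsBaseChange B φ := by
  let iR : ∀ j, Algebra A (R j) := fun j ↦ (x j).toAlgebra
  let iR' : ∀ j, Algebra B (R' j) := fun j ↦ (x' j).toAlgebra
  let iR'' : ∀ j, Algebra A (R' j) := fun j ↦ ((α j).comp (x j)).toAlgebra
  let iRR' : ∀ j, Algebra (R j) (R' j) := fun j ↦ (α j).toAlgebra
  have tR : ∀ j, IsScalarTower A B (R' j) := fun j ↦
    IsScalarTower.of_algebraMap_eq' congr($((hα j).w).hom)
  have tR' : ∀ j, IsScalarTower A (R j) (R' j) := fun j ↦ IsScalarTower.of_algebraMap_eq' rfl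
  let iS : ∀ k, Algebra A (S k) := fun k ↦ (y k).toAlgebra
  let iS' : ∀ k, Algebra B (S' k) := fun k ↦ (y' k).toAlgebra
  let iS'' : ∀ k, Algebra A (S' k) := fun k ↦ ((β k).comp (y k)).toAlgebra
  let iSS' : ∀ k, Algebra (S k) (S' k) := fun k ↦ (β k).toAlgebra
  have tS : ∀ k, IsScalarTower A B (S' k) := fun k ↦
    IsScalarTower.of_algebraMap_eq' congr($((hβ k).w).hom)
  have tS' : ∀ k, IsScalarTower A (S k) (S' k) := fun k ↦
    IsScalarTower.of_algebraMap_eq' rfl
  have hbα : ∀ j, Algebra.IsPushout A B (R j) (R' j) := fun j ↦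
    CommRingCat.isPushout_iff_isPushout.mp (hα j).flip
  have hbβ : ∀ k, Algebra.IsPushout A B (S k) (S' k) := fun k ↦
    CommRingCat.isPushout_iff_isPushout.mp (hβ k).flip
  let L : ∀ k, R (s k) →ₗ[A] S k := fun k ↦
    (AlgHom.mk (l k) (fun t ↦ congr($(hl k) t))).toLinearMap
  let Rr : ∀ k, R (t k) →ₗ[A] S k := fun k ↦
    (AlgHom.mk (r k) (fun t ↦ congr($(hr k) t))).toLinearMap
  let L' : ∀ k, R' (s k) →ₗ[B] S' k := fun k ↦
    (AlgHom.mk (l' k) (fun t ↦ congr($(hl' k) t))).toLinearMap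
  let Rr' : ∀ k, R' (t k) →ₗ[B] S' k := fun k ↦
    (AlgHom.mk (r' k) (fun t ↦ congr($(hr' k) t))).toLinearMap
  let ϕ : (∀ j, R j) →ₗ[A] (∀ k, S k) := .pi fun k ↦
    (LinearMap.mulRight A (g k)) ∘ₗ L k ∘ₗ .proj (s k) - Rr k ∘ₗ .proj (t k)
  let ϕ' : (∀ j, R' j) →ₗ[B] (∀ k, S' k) := .pi fun k ↦
    (LinearMap.mulRight B (β k (g k))) ∘ₗ L' k ∘ₗ .proj (s k) - Rr' k ∘ₗ .proj (t k)
  let h₂ : (∀ j, R j) →ₗ[A] (∀ j, R' j) :=
    .pi fun j ↦ (IsScalarTower.toAlgHom A (R j) (R' j)).toLinearMap ∘ₗ .proj j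
  let h₃ : (∀ j, S j) →ₗ[A] (∀ j, S' j) :=
    .pi fun k ↦ (IsScalarTower.toAlgHom A (S k) (S' k)).toLinearMap ∘ₗ .proj k
  let f : M →ₗ[A] ∀ j, R j :=
    { toFun := i
      map_add' := i.map_add
      map_smul' := fun a m => funext fun j => (hiA a m j).trans (Algebra.smul_def a (i m j)).symm }
  let f' : N →ₗ[B] ∀ j, R' j :=
    { toFun := i'
      map_add' := i'.map_add
      map_smul' := fun a m => funext fun j => (hiB a m j).trans (Algebra.smul_def a (i' m j)).symm }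
  refine IsBaseChange.of_left_exact B (f := f) (g := ϕ) (f' := f') (g' := ϕ') φ h₂ h₃ ?_ ?_
    (IsBaseChange.pi _ fun j => (hbα j).out) (IsBaseChange.pi _ fun k => (hbβ k).out) ?_ hi ?_ hi'
  · ext m j
    exact (hφ m j).symm
  · ext1 m
    funext k
    change β k (l k (m (s k)) * g k - r k (m (t k))) =
      l' k (α (s k) (m (s k))) * β k (g k) - r' k (α (t k) (m (t k)))
    have h1 : l' k (α (s k) (m (s k))) = β k (l k (m (s k))) := congr($(cl k) (m (s k))).symm
    have h2 : r' k (α (t k) (m (t k))) = β k (r k (m (t k))) := congr($(cr k) (m (t k))).symm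
    rw [h1, h2, map_sub, map_mul]
  · intro c
    refine Iff.trans ?_ (him c)
    constructor
    · intro h k
      exact sub_eq_zero.mp (congrFun h k)
    · intro h
      funext k
      exact sub_eq_zero.mpr (h k)
  · intro c
    refine Iff.trans ?_ (hin c)
    constructor
    · intro h k
      exact sub_eq_zero.mp (congrFun h k)
    · intro h
      funext k
      exact sub_eq_zero.mpr (h k)

end K675.Pol
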