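import Groth.Agent.VecBal.K675.Trans
import Groth.Agent.VecBal.K675.RingBC
import Groth.Agent.Desc.AmpleDesc

/-!
# Flat base change of sections of line bundles
-/

set_option autoImplicit false
universe u

open CategoryTheory CategoryTheory.Limits AlgebraicGeometry TopologicalSpace Opposite

namespace K675.Pol

open Groth.Agent.Fdesc.LocGen Groth.Agent.Flat2H.FamExt Line

variable {C T T₀ Z Z₀ : Scheme.{u}} {ι : Type} (ℓ : Line C ι) {v₀ : T₀ ⟶ C} {v : T ⟶ C}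

theorem isBaseChange [Finite ι] [IsAffine Z₀] [IsAffine Z] {h : T ⟶ T₀} {t : T ⟶ Z} {f₀ : T₀ ⟶ Z₀} {z : Z ⟶ Z₀}
    (H : IsPullback h t f₀ z) [Flat z] (hv : h ≫ v₀ = v)
    (hW : ∀ j, IsCompact (v₀ ⁻¹ᵁ ℓ.W j : Set T₀)) (hW' : ∀ j, IsQuasiSeparated (v₀ ⁻¹ᵁ ℓ.W j : Set T₀))
    (hcc : ∀ i j, IsCompact ((v₀ ⁻¹ᵁ ℓ.W i ⊓ v₀ ⁻¹ᵁ ℓ.W j : T₀.Opens) : Set T₀))
    {A B : Type u} [CommRing A] [CommRing B] (eA : A ≃+* Γ(Z₀, ⊤)) (eB : B ≃+* Γ(Z, ⊤)) [Algebra A B]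
    (halg : ∀ a, eB (algebraMap A B a) = z.appTop (eA a))
    [Module A (ℓ.Sec v₀)] (h₀ : ∀ (a : A) (c : ℓ.Sec v₀), a • c = f₀.appTop (eA a) • c)
    [Module B (ℓ.Sec v)] (h₁ : ∀ (b : B) (c : ℓ.Sec v), b • c = t.appTop (eB b) • c)
    [Module A (ℓ.Sec v)] [IsScalarTower A B (ℓ.Sec v)] (φ : ℓ.Sec v₀ →ₗ[A] ℓ.Sec v)
    (hφ : ∀ c, φ c = ℓ.pull h hv c) : IsBaseChange B φ := by
  subst hv
  have hflat : Module.Flat A B := by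
    let : Algebra Γ(Z₀, ⊤) Γ(Z, ⊤) := z.appTop.hom.toAlgebra
    have h1 : Module.Flat Γ(Z₀, ⊤) Γ(Z, ⊤) := z.flat_appTop
    have h2 : (algebraMap A B).Flat := by
      have h3 : algebraMap A B = (eB.symm.toRingHom.comp z.appTop.hom).comp eA.toRingHom := by
        ext a
        exact (eB.symm_apply_apply _).symm.trans (congrArg eB.symm (halg a))
      rw [h3]
      exact RingHom.Flat.comp (RingHom.Flat.of_bijective eA.bijective)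
        (RingHom.Flat.comp (show (z.appTop.hom).Flat from z.flat_appTop) (RingHom.Flat.of_bijective eB.symm.bijective))
    exact RingHom.flat_algebraMap_iff.mp h2
  have hW'' : ∀ i j, IsQuasiSeparated ((v₀ ⁻¹ᵁ ℓ.W i ⊓ v₀ ⁻¹ᵁ ℓ.W j : T₀.Opens) : Set T₀) := fun i j ↦
    (hW' i).of_subset (by simp)
  have key : ∀ (U : T₀.Opens), IsCompact (U : Set T₀) → IsQuasiSeparated (U : Set T₀) →
      IsPushout (CommRingCat.ofHom ((f₀.appLE ⊤ U le_top).hom.comp eA.toRingHom))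
        (CommRingCat.ofHom (algebraMap A B)) (CommRingCat.ofHom (h.app U).hom)
        (CommRingCat.ofHom ((t.appLE ⊤ (h ⁻¹ᵁ U) le_top).hom.comp eB.toRingHom)) := by
    intro U hU hU'
    have h1 := Groth.Agent.Desc.AmpleDesc.isPushout_app_of_flat H U hU hU'
    refine IsPushout.of_iso h1 eA.toCommRingCatIso.symm (Iso.refl _) eB.toCommRingCatIso.symm (Iso.refl _) ?_ ?_ ?_ ?_
    · rw [Iso.refl_hom, Category.comp_id]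
      ext a
      change _ = f₀.appLE ⊤ U le_top (eA (eA.symm a))
      rw [RingEquiv.apply_symm_apply]
    · ext a
      change eB.symm (z.appTop a) = algebraMap A B (eA.symm a)
      rw [← eB.symm_apply_apply (algebraMap A B (eA.symm a)), halg, RingEquiv.apply_symm_apply]
    · rw [Iso.refl_hom, Iso.refl_hom, Category.comp_id, Category.id_comp]
      rfl
    · rw [Iso.refl_hom, Category.comp_id]
      ext a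
      change _ = t.appLE ⊤ (h ⁻¹ᵁ U) le_top (eB (eB.symm a))
      rw [RingEquiv.apply_symm_apply]
  refine ring_bc (A := A) (B := B) (ι := ι) (κ := ι × ι)
    (R := fun j ↦ Γ(T₀, v₀ ⁻¹ᵁ ℓ.W j)) (R' := fun j ↦ Γ(T, h ⁻¹ᵁ (v₀ ⁻¹ᵁ ℓ.W j)))
    (S := fun k ↦ Γ(T₀, v₀ ⁻¹ᵁ ℓ.W k.1 ⊓ v₀ ⁻¹ᵁ ℓ.W k.2))
    (S' := fun k ↦ Γ(T, h ⁻¹ᵁ (v₀ ⁻¹ᵁ ℓ.W k.1 ⊓ v₀ ⁻¹ᵁ ℓ.W k.2)))
    (fun j ↦ (f₀.appLE ⊤ (v₀ ⁻¹ᵁ ℓ.W j) le_top).hom.comp eA.toRingHom)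
    (fun j ↦ (t.appLE ⊤ (h ⁻¹ᵁ (v₀ ⁻¹ᵁ ℓ.W j)) le_top).hom.comp eB.toRingHom)
    (fun j ↦ (h.app (v₀ ⁻¹ᵁ ℓ.W j)).hom) (fun j ↦ key _ (hW j) (hW' j))
    (fun k ↦ (f₀.appLE ⊤ (v₀ ⁻¹ᵁ ℓ.W k.1 ⊓ v₀ ⁻¹ᵁ ℓ.W k.2) le_top).hom.comp eA.toRingHom)
    (fun k ↦ (t.appLE ⊤ (h ⁻¹ᵁ (v₀ ⁻¹ᵁ ℓ.W k.1 ⊓ v₀ ⁻¹ᵁ ℓ.W k.2)) le_top).hom.comp eB.toRingHom)
    (fun k ↦ (h.app (v₀ ⁻¹ᵁ ℓ.W k.1 ⊓ v₀ ⁻¹ᵁ ℓ.W k.2)).hom)
    (fun k ↦ key _ (hcc _ _) (hW'' _ _))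
    (fun k ↦ k.1) (fun k ↦ k.2) (fun k ↦ ores inf_le_left) (fun k ↦ ores inf_le_right)
    (fun k ↦ ?_) (fun k ↦ ?_)
    (fun k ↦ ores (inf_le_left : h ⁻¹ᵁ (v₀ ⁻¹ᵁ ℓ.W k.1) ⊓ h ⁻¹ᵁ (v₀ ⁻¹ᵁ ℓ.W k.2) ≤ _))
    (fun k ↦ ores (inf_le_right : h ⁻¹ᵁ (v₀ ⁻¹ᵁ ℓ.W k.1) ⊓ h ⁻¹ᵁ (v₀ ⁻¹ᵁ ℓ.W k.2) ≤ _)) (fun k ↦ ?_) (fun k ↦ ?_)
    (fun k ↦ ?_) (fun k ↦ ?_) (fun k ↦ v₀.app (ℓ.W k.1 ⊓ ℓ.W k.2) (ℓ.g k.1 k.2))
    φ (ℓ.secSub v₀).subtype (ℓ.secSub (h ≫ v₀)).subtype Subtype.val_injective Subtype.val_injective ?_ ?_ ?_ ?_ ?_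
  · rw [← RingHom.comp_assoc]
    congr 1
    exact congrArg CommRingCat.Hom.hom (Scheme.Hom.appLE_map f₀ _ _)
  · rw [← RingHom.comp_assoc]
    congr 1
    exact congrArg CommRingCat.Hom.hom (Scheme.Hom.appLE_map f₀ _ _)
  · rw [← RingHom.comp_assoc]
    congr 1
    exact congrArg CommRingCat.Hom.hom (Scheme.Hom.appLE_map t _ _)
  · rw [← RingHom.comp_assoc]
    congr 1
    exact congrArg CommRingCat.Hom.hom (Scheme.Hom.appLE_map t _ _)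
  · exact congrArg CommRingCat.Hom.hom (h.naturality (homOfLE inf_le_left).op)
  · exact congrArg CommRingCat.Hom.hom (h.naturality (homOfLE inf_le_right).op)
  · intro a m j
    change (a • m).1 j = _
    rw [h₀, smul_val]
    exact congrArg (· * _) (ores_app f₀ (U := ⊤) le_top (eA a))
  · intro b n j
    change (b • n).1 j = _
    rw [h₁, smul_val]
    exact congrArg (· * _) (ores_app t (U := ⊤) le_top (eB b))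
  · intro m j
    change (φ m).1 j = _
    rw [hφ]
    exact pb_app h (m.1 j)
  · intro c
    exact ⟨fun hc => ⟨⟨c, fun i j => hc (i, j)⟩, rfl⟩, by rintro ⟨m, rfl⟩ k; exact m.2 k.1 k.2⟩
  · intro c
    exact ⟨fun hc => ⟨⟨c, fun i j => hc (i, j)⟩, rfl⟩, by rintro ⟨m, rfl⟩ k; exact m.2 k.1 k.2⟩

end K675.Pol
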