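import Groth.Agent.VecBal.K675.Stable
import Mathlib.RingTheory.TensorProduct.IsBaseChangeFree

/-!
# The determinant trick
-/

set_option autoImplicit false
universe u

open CategoryTheory CategoryTheory.Limits AlgebraicGeometry TopologicalSpace Opposite

namespace K675.Pol

open Groth.Agent.Fdesc.LocGen Groth.Agent.Flat2H.FamExt Line
open _root_.Desc K388.DDGrpd Groth.Agent.Desc.StableDD

section IsB

variable {C T : Scheme.{u}} {ι : Type} {ℓ : Line C ι} {v : T ⟶ C} {B : Type u} [CommRing B]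

/-- `b` is a basis of the sections over `B`. -/
structure IsB (ρ : B →+* Γ(T, ⊤)) {N : ℕ} (b : Fin N → ℓ.Sec v) : Prop where
  span : ∀ c : ℓ.Sec v, ∃ a : Fin N → B, c = ∑ i, ρ (a i) • b i
  indep : ∀ a : Fin N → B, ∑ i, ρ (a i) • b i = 0 → a = 0

theorem IsB.ext {ρ : B →+* Γ(T, ⊤)} {N : ℕ} {b : Fin N → ℓ.Sec v} (h : IsB ρ b) {a a' : Fin N → B}
    (e : ∑ i, ρ (a i) • b i = ∑ i, ρ (a' i) • b i) : a = a' := by
  have h1 := h.indep (a - a') (by
    simp only [Pi.sub_apply, map_sub, sub_smul, Finset.sum_sub_distrib]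
    rw [e, sub_self])
  exact sub_eq_zero.mp h1

theorem IsB.map {v' : T ⟶ C} {ρ : B →+* Γ(T, ⊤)} {N : ℕ} {b : Fin N → ℓ.Sec v} (h : IsB ρ b) (Ψ : Tr ℓ v v') :
    IsB ρ (fun i => Ψ.app (b i)) where
  span c := by
    obtain ⟨a, ha⟩ := h.span (Ψ.symm.app c)
    refine ⟨a, ?_⟩
    have := congrArg Ψ.app ha
    rw [Ψ.app_symm_app, map_sum] at this
    rw [this]
    exact Finset.sum_congr rfl fun i _ => map_smul _ _ _
  indep a ha := by
    refine h.indep a (Ψ.app_bijective.1 ?_)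
    rw [map_sum, map_zero, ← ha]
    exact Finset.sum_congr rfl fun i _ => map_smul _ _ _

end IsB

variable {C T X Z : Scheme.{u}} {ι : Type} [Finite ι] (ℓ : Line C ι)

theorem IsB.pull [IsAffine X] [IsAffine Z] [QuasiSeparatedSpace C] {v : T ⟶ C} {q : T ⟶ Z} {f : C ⟶ X} {z : Z ⟶ X}
    (H : IsPullback v q f z) [Flat z] (hW : ∀ j, IsCompact (ℓ.W j : Set C)) {N : ℕ} {b : Fin N → ℓ.Sec (𝟙 C)}
    (hb : IsB f.appTop.hom b) : IsB q.appTop.hom (fun i => ℓ.pull v (Category.comp_id v) (b i)) := by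
  let A : Type u := Γ(X, ⊤)
  let B : Type u := Γ(Z, ⊤)
  let _ : CommRing A := inferInstanceAs (CommRing Γ(X, ⊤))
  let _ : CommRing B := inferInstanceAs (CommRing Γ(Z, ⊤))
  let eA : A ≃+* Γ(X, ⊤) := RingEquiv.refl _
  let eB : B ≃+* Γ(Z, ⊤) := RingEquiv.refl _
  let _ : Algebra A B := z.appTop.hom.toAlgebra
  have halg : ∀ a, eB (algebraMap A B a) = z.appTop (eA a) := fun a => rfl
  let _ : Module A (ℓ.Sec (𝟙 C)) := Module.compHom _ (f.appTop.hom.comp eA.toRingHom)
  let _ : Module B (ℓ.Sec v) := Module.compHom _ (q.appTop.hom.comp eB.toRingHom)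
  let _ : Module A (ℓ.Sec v) := Module.compHom _ (algebraMap A B)
  have _ : IsScalarTower A B (ℓ.Sec v) := ⟨fun a b m => mul_smul (algebraMap A B a) b m⟩
  have hA₁ : ∀ (a : A) (c : ℓ.Sec (𝟙 C)), a • c = f.appTop (eA a) • c := fun _ _ => rfl
  have hB₂ : ∀ (b : B) (c : ℓ.Sec v), b • c = q.appTop (eB b) • c := fun _ _ => rfl
  have hA₂ : ∀ (a : A) (c : ℓ.Sec v), a • c = (q ≫ z).appTop (eA a) • c := fun _ _ => rfl
  let φ : ℓ.Sec (𝟙 C) →ₗ[A] ℓ.Sec v :=
    { toFun := ℓ.pull v (Category.comp_id _)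
      map_add' := map_add _
      map_smul' := fun a m => by
        rw [RingHom.id_apply, hA₁, hA₂, pull_smul, ← H.w]
        rfl }
  have bc : IsBaseChange B φ := isBaseChange ℓ H (Category.comp_id _) hW
    (fun j => IsQuasiSeparated.of_quasiSeparatedSpace _) (fun i j => QuasiSeparatedSpace.inter_isCompact _ _ (ℓ.W i).isOpen (hW i)
      (ℓ.W j).isOpen (hW j)) eA eB halg hA₁ hB₂ φ (fun _ => rfl)
  have hli : LinearIndependent A b := by
    rw [Fintype.linearIndependent_iff]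
    intro g hg i
    exact congrFun (hb.indep (fun i => eA (g i)) hg) i
  have hsp : ⊤ ≤ Submodule.span A (Set.range b) := by
    intro c _
    obtain ⟨a, ha⟩ := hb.span c
    rw [ha]
    exact Submodule.sum_mem _ fun i _ => Submodule.smul_mem _ (show A from a i) (Submodule.subset_span ⟨i, rfl⟩)
  let β : Module.Basis (Fin N) A (ℓ.Sec (𝟙 C)) := Module.Basis.mk hli hsp
  let γ := bc.basis β
  have hγ : ∀ i, γ i = ℓ.pull v (Category.comp_id v) (b i) := fun i => by
    rw [bc.basis_apply, Module.Basis.mk_apply]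
    rfl
  constructor
  · intro c
    refine ⟨fun i => γ.repr c i, ?_⟩
    conv_lhs => rw [← γ.sum_repr c]
    exact Finset.sum_congr rfl fun i _ => by rw [hγ]; rfl
  · intro a ha
    have h1 := Fintype.linearIndependent_iff.mp γ.linearIndependent a (by
      rw [← ha]
      exact Finset.sum_congr rfl fun i _ => by rw [hγ]; rfl)
    exact funext h1

section Matrix

variable {X S : Scheme.{u}} {p : X ⟶ S} {D : SchDD p} {ι : Type} {ℓ : Line D.obj.left ι} (Ψ : Tr ℓ (src D) (tgt D))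

theorem Tr.pull_app_b {N : ℕ} {b : Fin N → ℓ.Sec (𝟙 D.obj.left)} {G : Matrix (Fin N) (Fin N) Γ(Z2 p, ⊤)}
    (hG : ∀ i, Ψ.app (ℓ.pull (src D) (Category.comp_id _) (b i)) =
      ∑ j, (q2 D).appTop (G i j) • ℓ.pull (tgt D) (Category.comp_id _) (b j))
    {r : R3 D ⟶ R D} {z : Z3 p ⟶ Z2 p} (hz : q3 D ≫ z = r ≫ q2 D) {w w' : R3 D ⟶ D.obj.left} (hw : r ≫ src D = w)
    (hw' : r ≫ tgt D = w') (i : Fin N) :
    (Ψ.pull r hw hw').app (ℓ.pull w (Category.comp_id _) (b i)) =
      ∑ j, (q3 D).appTop (z.appTop (G i j)) • ℓ.pull w' (Category.comp_id _) (b j) := by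
  have h1 : ℓ.pull w (Category.comp_id _) (b i) = ℓ.pull r hw (ℓ.pull (src D) (Category.comp_id _) (b i)) :=
    (ℓ.pull_pull r (src D) (Category.comp_id _) hw w hw (Category.comp_id _) _).symm
  rw [h1, Ψ.pull_app r hw hw', hG, map_sum]
  refine Finset.sum_congr rfl fun j _ => ?_
  rw [pull_smul, ℓ.pull_pull r (tgt D) (Category.comp_id _) hw' w' hw' (Category.comp_id _)]
  congr 1
  change (r ≫ q2 D).appTop (G i j) = _
  rw [← hz]
  rfl

theorem smul_pow_pull_el {C T T' : Scheme.{u}} {ι : Type} {ℓ : Line C ι} {v v' : T ⟶ C} (Ψ : Tr ℓ v v') (N : ℕ)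
    (δ : Γ(T, ⊤)) (hδ : IsUnit δ) (h : T' ⟶ T) {w w' : T' ⟶ C} (hw : h ≫ v = w) (hw' : h ≫ v' = w')
    (hδ' : IsUnit (h.appTop δ)) (i j : ι) {V : T'.Opens} (hi : V ≤ w ⁻¹ᵁ ℓ.W i) (hj : V ≤ w' ⁻¹ᵁ ℓ.W j) :
    (((Ψ.pow N).smul δ hδ).pull h hw hw').el i j hi hj =
      (((Ψ.pull h hw hw').pow N).smul (h.appTop δ) hδ').el i j hi hj := by
  change ores _ (pb h _ (ores _ δ * Ψ.ψ i j ^ N)) = ores _ (ores _ (h.appTop δ) * pb h _ (Ψ.ψ i j) ^ N)
  rw [map_mul, map_mul, map_mul, pb_ores, map_pow, ores_pb, ores_ores]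
  exact congrArg (· * _) (ores_app h (U := ⊤) _ δ).symm

variable [IsAffine X] [IsAffine S] [Flat p] [Finite ι] [QuasiSeparatedSpace D.obj.left]

/-- **The determinant trick.** -/
theorem exists_honest (hW : ∀ j, IsCompact (ℓ.W j : Set D.obj.left))
    (hO : Function.Surjective (q3 D).appTop) {N : ℕ} {b : Fin N → ℓ.Sec (𝟙 D.obj.left)}
    (hb : IsB D.obj.hom.appTop.hom b) : ∃ (δ : Γ(R D, ⊤)) (hδ : IsUnit δ), ((Ψ.pow N).smul δ hδ).IsHonest := by
  have hsrc := IsB.pull ℓ (sq_src D) hW hb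
  have htgt := IsB.pull ℓ (sq_tgt D) hW hb
  have hv3 := IsB.pull ℓ (sqv3 D) hW hb
  have hmap := hsrc.map Ψ
  choose G hG using fun i => htgt.span (Ψ.app (ℓ.pull (src D) (Category.comp_id _) (b i)))
  choose G' hG' using fun i => hmap.span (ℓ.pull (tgt D) (Category.comp_id _) (b i))
  -- `G` is invertible
  have hmul : (Matrix.of G') * (Matrix.of G) = 1 := by
    funext i
    refine htgt.ext ?_
    have h1 : ∑ k, (q2 D).appTop (((Matrix.of G') * (Matrix.of G)) i k) • ℓ.pull (tgt D) (Category.comp_id _) (b k) =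
        ℓ.pull (tgt D) (Category.comp_id _) (b i) := by
      conv_rhs => rw [hG' i]
      simp only [Matrix.mul_apply, map_sum, Finset.sum_smul, map_mul, mul_smul]
      rw [Finset.sum_comm]
      refine Finset.sum_congr rfl fun j _ => ?_
      rw [hG j, Finset.smul_sum]
      rfl
    have h2 : ∑ k, (q2 D).appTop ((1 : Matrix (Fin N) (Fin N) Γ(Z2 p, ⊤)) i k) •
        ℓ.pull (tgt D) (Category.comp_id _) (b k) = ℓ.pull (tgt D) (Category.comp_id _) (b i) := by
      rw [Finset.sum_eq_single i]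
      · rw [Matrix.one_apply_eq, map_one, one_smul]
      · intro k _ hk
        rw [Matrix.one_apply_ne' hk, map_zero, zero_smul]
      · intro h; exact (h (Finset.mem_univ _)).elim
    exact h1.trans h2.symm
  have hdet : IsUnit (Matrix.of G).det := by
    have h1 := congrArg Matrix.det hmul
    rw [Matrix.det_mul, Matrix.det_one] at h1
    exact IsUnit.of_mul_eq_one_right _ h1
  -- the cocycle
  obtain ⟨u, hu, hcomp⟩ := Tr.exists_comp Ψ.t12 Ψ.t23 Ψ.t13
  obtain ⟨uZ, huZ⟩ := hO u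
  have key : ((z12 p).appTop.hom.mapMatrix (Matrix.of G)) * ((z23 p).appTop.hom.mapMatrix (Matrix.of G)) =
      uZ • ((z13 p).appTop.hom.mapMatrix (Matrix.of G)) := by
    funext i
    refine hv3.ext ?_
    have h1 := hcomp.app (ℓ.pull (r12 D ≫ src D) (Category.comp_id _) (b i))
    rw [Ψ.pull_app_b (G := Matrix.of G) hG (q3_z12 D) rfl rfl, Ψ.pull_app_b (G := Matrix.of G) hG (q3_z13 D) _ _,
      map_sum] at h1
    have h2 : ∀ j, Ψ.t23.app ((q3 D).appTop ((z12 p).appTop (Matrix.of G i j)) •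
        ℓ.pull (r12 D ≫ tgt D) (Category.comp_id _) (b j)) = (q3 D).appTop ((z12 p).appTop (Matrix.of G i j)) •
        ∑ k, (q3 D).appTop ((z23 p).appTop (Matrix.of G j k)) • ℓ.pull (r13 D ≫ tgt D) (Category.comp_id _) (b k) := by
      intro j
      rw [map_smul, Ψ.pull_app_b (G := Matrix.of G) hG (q3_z23 D) _ _]
    simp only [h2] at h1
    refine Eq.trans ?_ (h1.trans ?_)
    · simp only [Matrix.mul_apply, map_sum, Finset.sum_smul, map_mul, mul_smul, Finset.smul_sum]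
      rw [Finset.sum_comm]
      rfl
    · rw [← huZ, Finset.smul_sum]
      refine Finset.sum_congr rfl fun k _ => ?_
      rw [← mul_smul, ← map_mul]
      rfl
  have hdetkey := congrArg Matrix.det key
  rw [Matrix.det_mul, Matrix.det_smul, Fintype.card_fin, ← RingHom.map_det, ← RingHom.map_det, ← RingHom.map_det]
    at hdetkey
  -- the corrected transport
  set dd : Γ(R D, ⊤) := (q2 D).appTop (Matrix.of G).det with hdd
  have hddu : IsUnit dd := hdet.map _
  obtain ⟨δ, hδ⟩ := hddu.exists_left_inv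
  have hδu : IsUnit δ := IsUnit.of_mul_eq_one _ hδ
  refine ⟨δ, hδu, ?_⟩
  have e : ∀ (r : R3 D ⟶ R D) (z : Z3 p ⟶ Z2 p) (_ : q3 D ≫ z = r ≫ q2 D),
      r.appTop dd = (q3 D).appTop (z.appTop (Matrix.of G).det) := by
    intro r z hz
    change (r ≫ q2 D).appTop (Matrix.of G).det = _
    rw [← hz]
    rfl
  have h12 : IsUnit ((r12 D).appTop δ) := hδu.map (r12 D).appTop.hom
  have h23 : IsUnit ((r23 D).appTop δ) := hδu.map (r23 D).appTop.hom
  have h13 : IsUnit ((r13 D).appTop δ) := hδu.map (r13 D).appTop.hom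
  have hrel : (r12 D).appTop δ * (r23 D).appTop δ * u ^ N = 1 * (r13 D).appTop δ := by
    have a12 : (r12 D).appTop δ * (r12 D).appTop dd = 1 := by
      rw [← map_mul, hδ, map_one]
    have a23 : (r23 D).appTop δ * (r23 D).appTop dd = 1 := by
      rw [← map_mul, hδ, map_one]
    have a13 : (r13 D).appTop δ * (r13 D).appTop dd = 1 := by
      rw [← map_mul, hδ, map_one]
    have a : (r12 D).appTop dd * (r23 D).appTop dd = u ^ N * (r13 D).appTop dd := by
      rw [e _ _ (q3_z12 D), e _ _ (q3_z23 D), e _ _ (q3_z13 D), ← huZ, ← map_mul, ← map_pow, ← map_mul]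
      exact congrArg (q3 D).appTop hdetkey
    calc _ = (r12 D).appTop δ * (r23 D).appTop δ * (u ^ N * (r13 D).appTop dd) * (r13 D).appTop δ := by
          rw [← mul_assoc, mul_assoc _ ((r13 D).appTop dd), mul_comm ((r13 D).appTop dd), a13, mul_one]
      _ = ((r12 D).appTop δ * (r12 D).appTop dd) * ((r23 D).appTop δ * (r23 D).appTop dd) * (r13 D).appTop δ := by
          rw [← a]; ring
      _ = _ := by rw [a12, a23, one_mul]
  have hC := Tr.Comp.smul (hcomp.pow N) h12 h23 h13 hrel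
  intro i j l V hi hj hl
  have h2 := hC i j l hi hj hl
  rw [← smul_pow_pull_el Ψ N δ hδu (r12 D) rfl rfl, ← smul_pow_pull_el Ψ N δ hδu (r23 D) (r23_src D) (r23_tgt D),
    ← smul_pow_pull_el Ψ N δ hδu (r13 D) (r13_src D) rfl] at h2
  exact h2

end Matrix

end K675.Pol
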