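import Groth.Agent.VecBal.K675.Setup
import Groth.Agent.Ega2.RelAmp
import Groth.Agent.Models2.FibreFreeSch
import Groth.Agent.Flat2H.FibreVanishRel

/-!
# The sections of high powers of an ample sheaf form a finite projective module
-/

set_option autoImplicit false
universe u

open CategoryTheory CategoryTheory.Limits AlgebraicGeometry TopologicalSpace Opposite

namespace K675.Pol

open Groth.Agent.Fdesc.LocGen Groth.Agent.Flat2H.FamExt Groth.Agent.Flat2H.FamDict Groth.Agent.Flat2H.FamOpen Line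

/-- Sections of an invertible module are families. -/
theorem exists_secEquiv {C : Scheme.{u}} {ι : Type} {L : C.Modules} {W : ι → C.Opens} {g : ∀ i j, Γ(C, W i ⊓ W j)}
    (h : Trivs L W g) : ∃ e : Γ(L, ⊤) ≃+ (lineOf h).Sec (𝟙 C), ∀ (a : Γ(C, ⊤)) (m : Γ(L, ⊤)), e (a • m) = a • e m := by
  have htop := h.iSup_eq
  obtain ⟨h0, e, he, hg⟩ := id h
  choose c hc using fun (m : Γ(L, ⊤)) (j : ι) => (he j).exists_eq (res L le_top m)
  have hrel : ∀ (m : Γ(L, ⊤)) (i j : ι) {V : C.Opens} (hi : V ≤ W i) (hj : V ≤ W j),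
      ores hi (c m i) * ores (le_inf hi hj) (g i j) = ores hj (c m j) := by
    intro m i j V hi hj
    refine ((he j).res hj).ext ?_
    have e1 := congrArg (res L hi) (hc m i)
    have e2 := congrArg (res L hj) (hc m j)
    have e3 := congrArg (res L (le_inf hi hj)) (hg i j)
    simp only [res_res, res_smul] at e1 e2 e3
    rw [mul_smul, ← e3, ← e1, ← e2]
  have hpb : ∀ (i j : ι) {V : C.Opens} (hi : V ≤ (𝟙 C) ⁻¹ᵁ W i) (hj : V ≤ (𝟙 C) ⁻¹ᵁ W j),
      (lineOf h).gg (𝟙 C) i j hi hj = ores (show V ≤ W i ⊓ W j from le_inf hi hj) (g i j) :=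
    fun i j V hi hj => pb_id _ _
  let F : Γ(L, ⊤) → (lineOf h).Sec (𝟙 C) := fun m => (lineOf h).mkSec (𝟙 C) (fun i => c m i) (by
    intro i j V hi hj
    rw [hpb]
    exact hrel m i j hi hj)
  have hF : ∀ m i, (F m).1 i = c m i := fun m i => rfl
  have hFval : ∀ m i, res L le_top m = (show Γ(C, W i) from (F m).1 i) • e i := fun m i => hc m i
  have hinj : Function.Injective F := by
    intro m m' hmm
    refine res_ext L W (fun _ => le_top) htop.ge fun i => ?_
    rw [hFval m i, hFval m' i, hmm]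
  have hsurj : Function.Surjective F := by
    intro s
    obtain ⟨m, hm⟩ := res_glue L W (V := ⊤) (fun _ ↦ le_top) htop.ge (fun j ↦ (show Γ(C, W j) from s.1 j) • e j) (by
      intro i j
      rw [res_smul, res_smul, hg i j, smul_smul]
      have h1 := (lineOf h).rel s i j (V := W i ⊓ W j) inf_le_left inf_le_right
      rw [hpb, ores_refl] at h1
      exact congrArg (· • _) h1)
    refine ⟨m, (lineOf h).sec_ext fun i => (he i).ext ?_⟩
    rw [← hFval m i]
    exact hm i
  have cadd : ∀ m m' i, c (m + m') i = c m i + c m' i := by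
    intro m m' i
    refine (he i).ext ?_
    rw [← hc, map_add, hc m, hc m', add_smul]
  have csmul : ∀ (a : Γ(C, ⊤)) m i, c (a • m) i = ores le_top a * c m i := by
    intro a m i
    refine (he i).ext ?_
    rw [← hc, res_smul, hc m, smul_smul]
  have hadd : ∀ m m', F (m + m') = F m + F m' := fun m m' => (lineOf h).sec_ext fun i => cadd m m' i
  have hsmul : ∀ (a : Γ(C, ⊤)) m, F (a • m) = a • F m := fun a m => (lineOf h).sec_ext fun i => csmul a m i
  exact ⟨{ Equiv.ofBijective F ⟨hinj, hsurj⟩ with map_add' := hadd }, hsmul⟩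

/-- The `A`-module structure through `ρ : A → Γ(T, ⊤)`. -/
@[reducible] noncomputable def modA {C T : Scheme.{u}} {ι : Type} (ℓ : Line C ι) (v : T ⟶ C) {A : Type u} [CommRing A]
    (ρ : A →+* Γ(T, ⊤)) : Module A (ℓ.Sec v) := Module.compHom _ ρ

theorem finite_projective {C X : Scheme.{u}} (f : C ⟶ X) [IsProper f] [Flat f] [LocallyOfFinitePresentation f]
    [IsAffine X] {L : C.Modules} (hL : CohB1.IsAmple L) {ι : Type} {W : ι → C.Opens} {g : ∀ i j, Γ(C, W i ⊓ W j)}
    (h : Trivs L W g) : ∃ d₀ : ℕ, ∀ n, d₀ ≤ n →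
      (letI := modA ((lineOf h).pow n) (𝟙 C) f.appTop.hom
       Module.Finite Γ(X, ⊤) (((lineOf h).pow n).Sec (𝟙 C)) ∧
       Module.Projective Γ(X, ⊤) (((lineOf h).pow n).Sec (𝟙 C))) := by
  obtain ⟨d₀, h₀⟩ := Groth.Agent.Flat2H.FibreVanish.exists_uniform_relAmple f
    (Groth.Agent.Ega2.RelAmp.isRelAmple_iff_isAmple.mpr hL)
  refine ⟨d₀, fun n hn => ?_⟩
  have hinv : PicF.IsInvertible (CohB1.tensorPow L n) := Groth.Agent.Fdesc.LocGen.isInvertible_tensorPow hL.1 n
  obtain ⟨-, h2, h3⟩ := Groth.Agent.Models2.FibreFreeSch.affineOpen f hinv (isAffineOpen_top X)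
    (fun s _ p hp => h₀ s n hn p hp)
  obtain ⟨e, he⟩ := exists_secEquiv (h.tensorPow n)
  let _ := modA ((lineOf h).pow n) (𝟙 C) f.appTop.hom
  let E : Γ((Scheme.Modules.pushforward f).obj (CohB1.tensorPow L n), ⊤) ≃ₗ[Γ(X, ⊤)]
      ((lineOf h).pow n).Sec (𝟙 C) :=
    { e with map_smul' := fun a m => he (f.app ⊤ a) m }
  exact ⟨Module.Finite.equiv E, Module.Projective.of_equiv E⟩

end K675.Pol
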