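import Groth.Agent.VecBal.K675.Local

/-!
# A flat cover of an open of constant rank over which the sections are free
-/

set_option autoImplicit false
universe u

open CategoryTheory CategoryTheory.Limits AlgebraicGeometry TopologicalSpace Opposite

namespace K675.Pol

open Groth.Agent.Fdesc.LocGen Groth.Agent.Flat2H.FamExt Groth.Agent.Flat2H.FamDict Groth.Agent.Flat2H.FamOpen Line

theorem exists_free_cover {C X : Scheme.{u}} {ι : Type} [Finite ι] (ℓ : Line C ι) [IsAffine X] [QuasiSeparatedSpace C]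
    (f : C ⟶ X) (hW : ∀ j, IsCompact (ℓ.W j : Set C))
    (hfp : letI := modA ℓ (𝟙 C) f.appTop.hom
       Module.Finite Γ(X, ⊤) (ℓ.Sec (𝟙 C)) ∧ Module.Projective Γ(X, ⊤) (ℓ.Sec (𝟙 C)))
    (N : ℕ) (O : X.Opens) (hO : IsCompact (O : Set X)) (hN : ∀ x ∈ O, rk ℓ (𝟙 C) f x = N) :
    ∃ (X₀ : Scheme.{u}) (a : X₀ ⟶ X), IsAffine X₀ ∧ Flat a ∧ Set.range a = O ∧
      ∃ b : Fin N → ℓ.Sec (pullback.fst f a), IsB (pullback.snd f a).appTop.hom b := by
  let A : Type u := Γ(X, ⊤)
  let _ : CommRing A := inferInstanceAs (CommRing Γ(X, ⊤))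
  let iA : Module A (ℓ.Sec (𝟙 C)) := modA ℓ (𝟙 C) f.appTop.hom
  have h1 : Module.Finite A (ℓ.Sec (𝟙 C)) := hfp.1
  have h2 : Module.Projective A (ℓ.Sec (𝟙 C)) := hfp.2
  have hsurj : Function.Surjective X.isoSpec.inv := X.isoSpec.inv.surjective
  have hinv : ∀ P, X.isoSpec.hom (X.isoSpec.inv P) = P := fun P => by
    rw [← Scheme.Hom.comp_apply, Iso.inv_hom_id]; rfl
  obtain ⟨B, iB₁, iB₂, hBflat, hBr, ⟨β⟩⟩ := exists_cover (A := A) (ℓ.Sec (𝟙 C)) (X.isoSpec.inv ⁻¹' (O : Set X))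
    (O.2.preimage X.isoSpec.inv.continuous)
    ((X.isoSpec.inv.homeomorph.isCompact_preimage).2 hO) N (fun P hP => by
      have h3 := hN _ hP
      rw [rk] at h3
      rw [← h3, hinv P])
  let X₀ : Scheme.{u} := Spec (CommRingCat.of B)
  let φ₀ : Γ(X, ⊤) ⟶ CommRingCat.of B := CommRingCat.ofHom (algebraMap A B)
  let a : X₀ ⟶ X := Spec.map φ₀ ≫ X.isoSpec.inv
  have ha : Flat a := by
    have : Flat (Spec.map φ₀) := by
      rw [Flat.SpecMap_iff]
      exact RingHom.flat_algebraMap_iff.mpr hBflat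
    infer_instance
  have hra : Set.range a = O := by
    have e1 : (a : X₀ → X) = X.isoSpec.inv ∘ (Spec.map φ₀ : X₀ → _) := by
      funext x
      exact Scheme.Hom.comp_apply _ _ _
    rw [e1, Set.range_comp]
    have e2 : Set.range (Spec.map φ₀ : X₀ → _) = X.isoSpec.inv ⁻¹' (O : Set X) := hBr
    rw [e2, Set.image_preimage_eq _ hsurj]
  refine ⟨X₀, a, inferInstance, ha, hra, ?_⟩
  let eA : A ≃+* Γ(X, ⊤) := RingEquiv.refl _
  let eB : B ≃+* Γ(X₀, ⊤) := (Scheme.ΓSpecIso (CommRingCat.of B)).symm.commRingCatIsoToRingEquiv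
  have halg : ∀ x, eB (algebraMap A B x) = a.appTop (eA x) := by
    intro x
    have e1 : a.appTop = φ₀ ≫ (Scheme.ΓSpecIso (CommRingCat.of B)).inv := by
      rw [Scheme.Hom.comp_appTop, ← cancel_mono (Scheme.ΓSpecIso (CommRingCat.of B)).hom, Category.assoc,
        Category.assoc, Scheme.ΓSpecIso_naturality, Iso.inv_hom_id, Category.comp_id, ← Category.assoc]
      have e2 : X.isoSpec.inv.appTop ≫ (Scheme.ΓSpecIso Γ(X, ⊤)).hom = 𝟙 _ := by
        have e3 : (Scheme.ΓSpecIso Γ(X, ⊤)).hom = X.isoSpec.hom.appTop := (Scheme.toSpecΓ_appTop X).symm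
        rw [e3, ← Scheme.Hom.comp_appTop, Iso.hom_inv_id]
        simp
      rw [e2, Category.id_comp]
    rw [e1]
    rfl
  let v := pullback.fst f a
  let q := pullback.snd f a
  have H : IsPullback v q f a := IsPullback.of_hasPullback f a
  let _ : Module B (ℓ.Sec v) := modA ℓ v (q.appTop.hom.comp eB.toRingHom)
  let _ : Module A (ℓ.Sec v) := Module.compHom _ (algebraMap A B)
  have _ : IsScalarTower A B (ℓ.Sec v) := ⟨fun a b m => by
    rw [Algebra.smul_def]; exact mul_smul (algebraMap A B a) b m⟩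
  have hA₁ : ∀ (x : A) (c : ℓ.Sec (𝟙 C)), x • c = f.appTop (eA x) • c := fun _ _ => rfl
  have hB₂ : ∀ (b : B) (c : ℓ.Sec v), b • c = q.appTop (eB b) • c := fun _ _ => rfl
  have hA₂ : ∀ (x : A) (c : ℓ.Sec v), x • c = q.appTop (a.appTop (eA x)) • c := fun x c => by
    rw [← halg]; rfl
  let φ : ℓ.Sec (𝟙 C) →ₗ[A] ℓ.Sec v :=
    { toFun := ℓ.pull v (Category.comp_id _)
      map_add' := map_add _
      map_smul' := fun x m => by
        rw [RingHom.id_apply, hA₁, hA₂, pull_smul]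
        have e1 : v.appTop (f.appTop (eA x)) = q.appTop (a.appTop (eA x)) := by
          change (v ≫ f).appTop (eA x) = (q ≫ a).appTop (eA x)
          rw [H.w]
        rw [e1] }
  have bc : IsBaseChange B φ := isBaseChange ℓ H (Category.comp_id _) hW
    (fun j => IsQuasiSeparated.of_quasiSeparatedSpace _) (fun i j => QuasiSeparatedSpace.inter_isCompact _ _ (ℓ.W i).isOpen (hW i)
      (ℓ.W j).isOpen (hW j)) eA eB halg hA₁ hB₂ φ (fun _ => rfl)
  let γ : Module.Basis (Fin N) B (ℓ.Sec v) := β.map bc.equiv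
  refine ⟨fun i => γ i, ?_, ?_⟩
  · intro c
    refine ⟨fun i => eB (γ.repr c i), ?_⟩
    conv_lhs => rw [← γ.sum_repr c]
    rfl
  · intro x hx
    have h3 := Fintype.linearIndependent_iff.mp γ.linearIndependent (fun i => eB.symm (x i)) (by
      rw [← hx]
      refine Finset.sum_congr rfl fun i _ => ?_
      rw [hB₂, eB.apply_symm_apply])
    funext i
    have := congrArg eB (h3 i)
    rw [eB.apply_symm_apply, map_zero] at this
    exact this

end K675.Pol
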