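import Groth.Agent.Desc.K388.DDGrpd

/-!
# The simplicial squares attached to a descent datum
-/

set_option autoImplicit false
open CategoryTheory CategoryTheory.Limits AlgebraicGeometry
universe u

namespace K675.Pol

open _root_.Desc K388.DDGrpd

variable {X S : Scheme.{u}} {p : X ⟶ S} (D : SchDD p)

/-- transport of cartesian squares -/
theorem isPullback_tr {Z T : Scheme.{u}} {v : T ⟶ D.obj.left} {t : T ⟶ Z} {z₁ z₂ : Z ⟶ X}
    (hz : z₁ ≫ p = z₂ ≫ p) (sq : IsPullback v t D.obj.hom z₁) (h : (v ≫ D.obj.hom) ≫ p = (t ≫ z₂) ≫ p) :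
    IsPullback (tr D v (t ≫ z₂) h) t D.obj.hom z₂ := by
  refine ⟨⟨tr_hom D v _ h⟩, ⟨PullbackCone.IsLimit.mk _ (fun s => sq.lift (tr D s.fst (s.snd ≫ z₁) ?_) s.snd ?_)
    ?_ ?_ ?_⟩⟩
  · rw [s.condition, Category.assoc, Category.assoc, hz]
  · exact tr_hom D _ _ _
  · intro s
    have hw : s.fst ≫ D.obj.hom = s.snd ≫ z₂ := s.condition
    have h1 : (s.fst ≫ D.obj.hom) ≫ p = (s.snd ≫ z₁) ≫ p := by
      rw [hw, Category.assoc, Category.assoc, hz]
    set l := sq.lift (tr D s.fst (s.snd ≫ z₁) h1) s.snd (tr_hom D _ _ _) with hl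
    have h2 : l ≫ v = tr D s.fst (s.snd ≫ z₁) h1 := sq.lift_fst _ _ _
    have h3 : l ≫ t = s.snd := sq.lift_snd _ _ _
    have h4 : ((l ≫ v) ≫ D.obj.hom) ≫ p = (l ≫ t ≫ z₂) ≫ p := by
      rw [Category.assoc, Category.assoc, Category.assoc]
      exact congrArg (l ≫ ·) (by rw [← Category.assoc]; exact h)
    refine (tr_nat D l v (t ≫ z₂) h h4).symm.trans ?_
    have h5 : (tr D s.fst (s.snd ≫ z₁) h1 ≫ D.obj.hom) ≫ p = (s.fst ≫ D.obj.hom) ≫ p := by
      rw [tr_hom, h1]
    refine (tr_congr D h2 (by rw [← Category.assoc, h3, hw]) h4 h5).trans ?_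
    rw [tr_tr D s.fst (s.snd ≫ z₁) (s.fst ≫ D.obj.hom) h1 h5 rfl, tr_self]
  · intro s
    exact sq.lift_snd _ _ _
  · intro s m hm₁ hm₂
    apply sq.hom_ext
    · rw [sq.lift_fst]
      have hw : s.fst ≫ D.obj.hom = s.snd ≫ z₂ := s.condition
      have h4 : ((m ≫ v) ≫ D.obj.hom) ≫ p = (m ≫ t ≫ z₂) ≫ p := by
        rw [Category.assoc, Category.assoc, Category.assoc]
        exact congrArg (m ≫ ·) (by rw [← Category.assoc]; exact h)
      have h5 : tr D (m ≫ v) (m ≫ t ≫ z₂) h4 = s.fst := (tr_nat D m v (t ≫ z₂) h h4).trans hm₁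
      have h6 : (m ≫ v) ≫ D.obj.hom = s.snd ≫ z₁ := by
        rw [Category.assoc, sq.w, ← Category.assoc, hm₂]
      have h7 : (tr D (m ≫ v) (m ≫ t ≫ z₂) h4 ≫ D.obj.hom) ≫ p = (s.snd ≫ z₁) ≫ p := by
        rw [h5, hw, Category.assoc, Category.assoc, hz]
      have h8 : ((m ≫ v) ≫ D.obj.hom) ≫ p = (s.snd ≫ z₁) ≫ p := by rw [h6]
      refine Eq.trans ?_ (tr_congr D h5 rfl h7 (by rw [hw, Category.assoc, Category.assoc, hz]))
      rw [tr_tr D (m ≫ v) _ (s.snd ≫ z₁) h4 h7 h8]
      exact ((tr_congr D rfl h6.symm h8 rfl).trans (tr_self D _ rfl)).symm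
    · rw [sq.lift_snd]
      exact hm₂

/-- `X ×_S X` -/
noncomputable abbrev Z2 (p : X ⟶ S) : Scheme.{u} := pullback p p

/-- `X ×_S X ×_S X` -/
noncomputable abbrev Z3 (p : X ⟶ S) : Scheme.{u} := pullback (pullback.fst p p ≫ p) p

/-- `R ⟶ X ×_S X` -/
noncomputable def q2 : R D ⟶ Z2 p := pullback.lift (src D ≫ D.obj.hom) (pt D) (src_pt D)

theorem q2_fst : q2 D ≫ pullback.fst p p = src D ≫ D.obj.hom := pullback.lift_fst _ _ _

theorem q2_snd : q2 D ≫ pullback.snd p p = pt D := pullback.lift_snd _ _ _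

theorem sq_src : IsPullback (src D) (q2 D) D.obj.hom (pullback.fst p p) := by
  have h : IsPullback (src D) (q2 D ≫ pullback.snd p p) (D.obj.hom ≫ p) p := by
    rw [q2_snd]; exact IsPullback.of_hasPullback _ _
  exact IsPullback.of_bot h (q2_fst D).symm (IsPullback.of_hasPullback p p)

theorem sq_tgt : IsPullback (tgt D) (q2 D) D.obj.hom (pullback.snd p p) := by
  have h := isPullback_tr D (z₂ := pullback.snd p p) pullback.condition (sq_src D) (by rw [q2_snd, src_pt])
  have e : tr D (src D) (q2 D ≫ pullback.snd p p) (by rw [q2_snd, src_pt]) = tgt D :=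
    tr_congr D rfl (q2_snd D) _ (src_pt D)
  rwa [e] at h

theorem sq_tgt' : IsPullback (tgt D) (src D ≫ D.obj.hom) (D.obj.hom ≫ p) p := by
  have h := (sq_tgt D).paste_vert (IsPullback.of_hasPullback p p).flip
  rwa [q2_fst] at h

/-- composable arrows -/
noncomputable abbrev R3 : Scheme.{u} := pullback (src D ≫ D.obj.hom ≫ p) p

/-- the first arrow -/
noncomputable abbrev r12 : R3 D ⟶ R D := pullback.fst _ _

/-- the last point of `X` -/
noncomputable abbrev x3 : R3 D ⟶ X := pullback.snd _ _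

theorem r3_cond : ((r12 D ≫ src D) ≫ D.obj.hom) ≫ p = x3 D ≫ p := by
  rw [Category.assoc, Category.assoc]; exact pullback.condition

theorem r3_cond' : ((r12 D ≫ tgt D) ≫ D.obj.hom) ≫ p = x3 D ≫ p := by
  rw [Category.assoc, Category.assoc, cond' D]; exact pullback.condition

/-- the second arrow -/
noncomputable def r23 : R3 D ⟶ R D := pullback.lift (r12 D ≫ tgt D) (x3 D) (by rw [← r3_cond', Category.assoc, Category.assoc, Category.assoc])

/-- the composite arrow -/
noncomputable def r13 : R3 D ⟶ R D := pullback.lift (r12 D ≫ src D) (x3 D) (by rw [← r3_cond, Category.assoc, Category.assoc, Category.assoc])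

theorem r23_src : r23 D ≫ src D = r12 D ≫ tgt D := pullback.lift_fst _ _ _

theorem r23_pt : r23 D ≫ pt D = x3 D := pullback.lift_snd _ _ _

theorem r13_src : r13 D ≫ src D = r12 D ≫ src D := pullback.lift_fst _ _ _

theorem r13_pt : r13 D ≫ pt D = x3 D := pullback.lift_snd _ _ _

theorem r13_tgt : r13 D ≫ tgt D = tr D (r12 D ≫ src D) (x3 D) (r3_cond D) := by
  rw [r13, lift_tgt]

theorem r23_tgt : r23 D ≫ tgt D = r13 D ≫ tgt D := by
  rw [r13_tgt, r23, lift_tgt]
  have h1 := comp_tgt D (r12 D)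
  have h2 : (tr D (r12 D ≫ src D) (r12 D ≫ pt D) (compat D (r12 D)) ≫ D.obj.hom) ≫ p = x3 D ≫ p := by
    rw [← h1, r3_cond']
  refine (tr_congr D h1 rfl (r3_cond' D) h2).trans ?_
  exact tr_tr D _ _ _ _ h2 _

/-- `R3 ⟶ X ×_S X ×_S X` -/
noncomputable def q3 : R3 D ⟶ Z3 p := pullback.lift (r12 D ≫ q2 D) (x3 D) (by
  rw [Category.assoc, ← Category.assoc (q2 D), q2_fst, ← r3_cond, Category.assoc, Category.assoc, Category.assoc])

theorem q3_fst : q3 D ≫ pullback.fst _ _ = r12 D ≫ q2 D := pullback.lift_fst _ _ _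

theorem q3_snd : q3 D ≫ pullback.snd _ _ = x3 D := pullback.lift_snd _ _ _

/-- the projections `Z3 ⟶ Z2` -/
noncomputable abbrev z12 (p : X ⟶ S) : Z3 p ⟶ Z2 p := pullback.fst _ _

/-- the projections `Z3 ⟶ Z2` -/
noncomputable def z23 (p : X ⟶ S) : Z3 p ⟶ Z2 p := pullback.lift (z12 p ≫ pullback.snd p p) (pullback.snd _ _) (by
  rw [Category.assoc, ← pullback.condition (f := p) (g := p), pullback.condition])

/-- the projections `Z3 ⟶ Z2` -/
noncomputable def z13 (p : X ⟶ S) : Z3 p ⟶ Z2 p := pullback.lift (z12 p ≫ pullback.fst p p) (pullback.snd _ _) (by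
  rw [Category.assoc, pullback.condition])

theorem q3_z12 : q3 D ≫ z12 p = r12 D ≫ q2 D := q3_fst D

theorem q3_z23 : q3 D ≫ z23 p = r23 D ≫ q2 D := by
  apply pullback.hom_ext
  · rw [Category.assoc, z23, pullback.lift_fst, ← Category.assoc, q3_z12, Category.assoc, Category.assoc, q2_snd,
      q2_fst, ← Category.assoc, r23_src, Category.assoc, tgt_hom]
  · rw [Category.assoc, z23, pullback.lift_snd, q3_snd, Category.assoc, q2_snd, r23_pt]

theorem q3_z13 : q3 D ≫ z13 p = r13 D ≫ q2 D := by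
  apply pullback.hom_ext
  · rw [Category.assoc, z13, pullback.lift_fst, ← Category.assoc, q3_z12, Category.assoc, Category.assoc, q2_fst,
      ← Category.assoc, ← Category.assoc, r13_src]
  · rw [Category.assoc, z13, pullback.lift_snd, q3_snd, Category.assoc, q2_snd, r13_pt]

theorem sq12 : IsPullback (r12 D) (q3 D) (q2 D) (z12 p) := by
  have h : IsPullback (r12 D) (q3 D ≫ pullback.snd _ _) (q2 D ≫ pullback.fst p p ≫ p) p := by
    rw [q3_snd, ← Category.assoc, q2_fst, Category.assoc]; exact IsPullback.of_hasPullback _ _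
  exact IsPullback.of_bot h (q3_fst D).symm (IsPullback.of_hasPullback _ _)

theorem sqv1 : IsPullback (r12 D ≫ src D) (q3 D) D.obj.hom (z12 p ≫ pullback.fst p p) :=
  (sq12 D).paste_horiz (sq_src D)

theorem sqv2 : IsPullback (r12 D ≫ tgt D) (q3 D) D.obj.hom (z12 p ≫ pullback.snd p p) :=
  (sq12 D).paste_horiz (sq_tgt D)

theorem sqv3 : IsPullback (r13 D ≫ tgt D) (q3 D) D.obj.hom (pullback.snd _ _) := by
  have h0 : ((r12 D ≫ src D) ≫ D.obj.hom) ≫ p = (q3 D ≫ pullback.snd (pullback.fst p p ≫ p) p) ≫ p := by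
    rw [q3_snd, r3_cond]
  have h := isPullback_tr D (z₂ := pullback.snd (pullback.fst p p ≫ p) p) (by
    rw [Category.assoc]; exact pullback.condition) (sqv1 D) h0
  rw [r13_tgt]
  have e : tr D (r12 D ≫ src D) (q3 D ≫ pullback.snd (pullback.fst p p ≫ p) p) h0 =
      tr D (r12 D ≫ src D) (x3 D) (r3_cond D) := tr_congr D rfl (q3_snd D) _ _
  rwa [e] at h

theorem sq23 : IsPullback (r23 D) (q3 D) (q2 D) (z23 p) := by
  refine IsPullback.of_right ?_ (q3_z23 D).symm (sq_src D)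
  rw [r23_src, z23, pullback.lift_fst]
  exact sqv2 D

theorem sqZ : IsPullback (z23 p) (z12 p ≫ pullback.fst p p) (pullback.fst p p ≫ p) p := by
  have h0 : z23 p ≫ pullback.fst p p ≫ p = (z12 p ≫ pullback.fst p p) ≫ p := by
    rw [z23, pullback.lift_fst_assoc, Category.assoc, Category.assoc, ← pullback.condition]
  refine ⟨⟨h0⟩, ⟨PullbackCone.IsLimit.mk _ (fun s => pullback.lift (pullback.lift s.snd (s.fst ≫ pullback.fst p p) ?_)
    (s.fst ≫ pullback.snd p p) ?_) ?_ ?_ ?_⟩⟩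
  · rw [← s.condition, Category.assoc]
  · rw [pullback.lift_fst_assoc, ← s.condition, Category.assoc]
    exact congrArg (s.fst ≫ ·) pullback.condition
  · intro s
    apply pullback.hom_ext
    · rw [Category.assoc, z23, pullback.lift_fst, pullback.lift_fst_assoc, pullback.lift_snd]
    · rw [Category.assoc, z23, pullback.lift_snd, pullback.lift_snd]
  · intro s
    rw [pullback.lift_fst_assoc, pullback.lift_fst]
  · intro s m h1 h2
    apply pullback.hom_ext
    · rw [pullback.lift_fst]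
      apply pullback.hom_ext
      · rw [pullback.lift_fst, Category.assoc]; exact h2
      · rw [pullback.lift_snd, ← h1, Category.assoc, Category.assoc, z23, pullback.lift_fst]
    · rw [pullback.lift_snd, ← h1, Category.assoc, z23, pullback.lift_snd]

theorem sq4 : IsPullback (r23 D) ((r12 D ≫ src D) ≫ D.obj.hom) ((src D ≫ D.obj.hom) ≫ p) p := by
  have h := (sq23 D).paste_vert (sqZ (p := p))
  have e1 : q3 D ≫ z12 p ≫ pullback.fst p p = (r12 D ≫ src D) ≫ D.obj.hom := by
    rw [← Category.assoc, q3_z12, Category.assoc, q2_fst, Category.assoc]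
  have e2 : q2 D ≫ pullback.fst p p ≫ p = (src D ≫ D.obj.hom) ≫ p := by
    rw [← Category.assoc, q2_fst]
  rwa [e1, e2] at h

end K675.Pol
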