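import Groth.Agent.VecBal.K675.BC
import Groth.Agent.VecBal.K675.Sq
import Groth.Agent.Desc.CoactData

/-!
# Descent of the sections of a line bundle with an honest descent datum
-/

set_option autoImplicit false
universe u

open CategoryTheory CategoryTheory.Limits AlgebraicGeometry TopologicalSpace Opposite TensorProduct

namespace K675.Pol

open Groth.Agent.Fdesc.LocGen Groth.Agent.Flat2H.FamExt Line _root_.Desc K388.DDGrpd
open Groth.Agent.Desc.CoactDescent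

variable {X S : Scheme.{u}} {p : X ⟶ S} {D : SchDD p} {ι : Type} {ℓ : Line D.obj.left ι}

namespace Tr

variable (Ψ : Tr ℓ (src D) (tgt D))

/-- first arrow -/
noncomputable abbrev t12 : Tr ℓ (r12 D ≫ src D) (r12 D ≫ tgt D) := Ψ.pull (r12 D) rfl rfl

/-- second arrow -/
noncomputable abbrev t23 : Tr ℓ (r12 D ≫ tgt D) (r13 D ≫ tgt D) := Ψ.pull (r23 D) (r23_src D) (r23_tgt D)

/-- composite arrow -/
noncomputable abbrev t13 : Tr ℓ (r12 D ≫ src D) (r13 D ≫ tgt D) := Ψ.pull (r13 D) (r13_src D) rfl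

/-- the cocycle condition -/
def IsHonest : Prop := Comp Ψ.t12 Ψ.t23 Ψ.t13 1

/-- the transport along the identity arrows -/
noncomputable abbrev t1 : Tr ℓ (𝟙 D.obj.left) (𝟙 D.obj.left) := Ψ.pull (one D) (one_src D) (one_tgt D)

theorem Comp.pull {C T T' : Scheme.{u}} {ι : Type} {ℓ : Line C ι} {v₁ v₂ v₃ : T ⟶ C} {Ψ₁₂ : Tr ℓ v₁ v₂}
    {Ψ₂₃ : Tr ℓ v₂ v₃} {Ψ₁₃ : Tr ℓ v₁ v₃} {u : Γ(T, ⊤)} (H : Comp Ψ₁₂ Ψ₂₃ Ψ₁₃ u) (h : T' ⟶ T)
    {w₁ w₂ w₃ : T' ⟶ C} (h₁ : h ≫ v₁ = w₁) (h₂ : h ≫ v₂ = w₂) (h₃ : h ≫ v₃ = w₃) :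
    Comp (Ψ₁₂.pull h h₁ h₂) (Ψ₂₃.pull h h₂ h₃) (Ψ₁₃.pull h h₁ h₃) (h.appTop u) := by
  subst h₁ h₂ h₃
  intro i j l V hi hj hl
  let O : T.Opens := v₁ ⁻¹ᵁ ℓ.W i ⊓ v₂ ⁻¹ᵁ ℓ.W j ⊓ v₃ ⁻¹ᵁ ℓ.W l
  have hV : V ≤ h ⁻¹ᵁ O := le_inf (le_inf hi hj) hl
  have h1 : O ≤ v₁ ⁻¹ᵁ ℓ.W i := inf_le_left.trans inf_le_left
  have h2 : O ≤ v₂ ⁻¹ᵁ ℓ.W j := inf_le_left.trans inf_le_right
  have h3 : O ≤ v₃ ⁻¹ᵁ ℓ.W l := inf_le_right
  rw [Ψ₁₂.pull_el h rfl rfl i j h1 h2 hV, Ψ₂₃.pull_el h rfl rfl j l h2 h3 hV, Ψ₁₃.pull_el h rfl rfl i l h1 h3 hV,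
    ← map_mul, H i j l h1 h2 h3, map_mul, pb_ores]
  exact congrArg (· * _) (ores_app h (U := ⊤) _ u).symm

theorem pull_pull_el {C T T' T'' : Scheme.{u}} {ι : Type} {ℓ : Line C ι} {v v' : T ⟶ C} (Ψ : Tr ℓ v v')
    (h : T' ⟶ T) {w w' : T' ⟶ C} (hw : h ≫ v = w) (hw' : h ≫ v' = w') (k : T'' ⟶ T') {y y' : T'' ⟶ C}
    (hy : k ≫ w = y) (hy' : k ≫ w' = y') (m : T'' ⟶ T) (hm : k ≫ h = m) (hm₁ : m ≫ v = y) (hm₂ : m ≫ v' = y')
    (i j : ι) {V : T''.Opens} (hi : V ≤ y ⁻¹ᵁ ℓ.W i) (hj : V ≤ y' ⁻¹ᵁ ℓ.W j) :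
    ((Ψ.pull h hw hw').pull k hy hy').el i j hi hj = (Ψ.pull m hm₁ hm₂).el i j hi hj := by
  change ores _ (pb k _ (pb h _ _)) = ores _ (pb m _ _)
  rw [pb_pb k h hm]

/-- the triple of identities -/
noncomputable def triv (D : SchDD p) : D.obj.left ⟶ R3 D := pullback.lift (one D) D.obj.hom (by
  rw [← Category.assoc, one_src, Category.id_comp])

theorem triv_r12 : triv D ≫ r12 D = one D := pullback.lift_fst _ _ _

theorem triv_x3 : triv D ≫ x3 D = D.obj.hom := pullback.lift_snd _ _ _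

theorem triv_r13 : triv D ≫ r13 D = one D := by
  apply R_ext
  · rw [Category.assoc, r13_src, ← Category.assoc, triv_r12]
  · rw [Category.assoc, r13_pt, triv_x3, one_pt]

theorem triv_r23 : triv D ≫ r23 D = one D := by
  apply R_ext
  · rw [Category.assoc, r23_src, ← Category.assoc, triv_r12, one_tgt, one_src]
  · rw [Category.assoc, r23_pt, triv_x3, one_pt]

variable {Ψ}

theorem IsHonest.t1 (h : IsHonest Ψ) : Comp Ψ.t1 Ψ.t1 Ψ.t1 1 := by
  have e1 : triv D ≫ r12 D ≫ src D = 𝟙 _ := by rw [← Category.assoc, triv_r12, one_src]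
  have e2 : triv D ≫ r12 D ≫ tgt D = 𝟙 _ := by rw [← Category.assoc, triv_r12, one_tgt]
  have e3 : triv D ≫ r13 D ≫ tgt D = 𝟙 _ := by rw [← Category.assoc, triv_r13, one_tgt]
  have h1 := Comp.pull h (triv D) e1 e2 e3
  intro i j l V hi hj hl
  have h2 := h1 i j l hi hj hl
  rw [Ψ.pull_pull_el (r12 D) rfl rfl (triv D) e1 e2 (one D) triv_r12 (one_src D) (one_tgt D),
    Ψ.pull_pull_el (r23 D) _ _ (triv D) e2 e3 (one D) triv_r23 (one_src D) (one_tgt D),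
    Ψ.pull_pull_el (r13 D) _ _ (triv D) e1 e3 (one D) triv_r13 (one_src D) (one_tgt D), map_one] at h2
  exact h2

theorem app_eq_self_of_comp {C T : Scheme.{u}} {ι : Type} {ℓ : Line C ι} {v : T ⟶ C} {Ψ : Tr ℓ v v}
    (H : Comp Ψ Ψ Ψ 1) (c : ℓ.Sec v) : Ψ.app c = c := by
  apply Ψ.app_bijective.1
  rw [H.app, one_smul]

variable [IsAffine X] [IsAffine S] [Flat p] [Finite ι]

theorem isQuasiSeparated_preimage {T : Scheme.{u}} [QuasiSeparatedSpace T] (U : T.Opens) :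
    IsQuasiSeparated (U : Set T) := IsQuasiSeparated.of_quasiSeparatedSpace _

/-- Every section is a combination of invariant sections. -/
theorem IsHonest.induction (h : IsHonest Ψ) [QuasiSeparatedSpace D.obj.left] (hW : ∀ j, IsCompact (ℓ.W j : Set D.obj.left))
    (P : ℓ.Sec (𝟙 D.obj.left) → Prop) (h0 : P 0) (hadd : ∀ c d, P c → P d → P (c + d))
    (hsmul : ∀ (a : Γ(X, ⊤)) (c : ℓ.Sec (𝟙 D.obj.left)), P c → P (D.obj.hom.appTop a • c))
    (hinv : ∀ c : ℓ.Sec (𝟙 D.obj.left), Ψ.app (ℓ.pull (src D) (Category.comp_id _) c) =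
      ℓ.pull (tgt D) (Category.comp_id _) c → P c) (c : ℓ.Sec (𝟙 D.obj.left)) : P c := by
  let A : Type u := Γ(S, ⊤)
  let B : Type u := Γ(X, ⊤)
  let _ : CommRing A := inferInstanceAs (CommRing Γ(S, ⊤))
  let _ : CommRing B := inferInstanceAs (CommRing Γ(X, ⊤))
  let eA : A ≃+* Γ(S, ⊤) := RingEquiv.refl _
  let eB : B ≃+* Γ(X, ⊤) := RingEquiv.refl _
  let _ : Algebra A B := p.appTop.hom.toAlgebra
  have halg : ∀ a, eB (algebraMap A B a) = p.appTop (eA a) := fun a => rfl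
  have hflat : Module.Flat A B := p.flat_appTop
  -- modules
  let M : Type u := ℓ.Sec (𝟙 D.obj.left)
  let Pm : Type u := ℓ.Sec (tgt D)
  let Q : Type u := ℓ.Sec (r13 D ≫ tgt D)
  let _ : Module B (ℓ.Sec (𝟙 D.obj.left)) := Module.compHom _ (D.obj.hom.appTop.hom.comp eB.toRingHom)
  let _ : Module A (ℓ.Sec (𝟙 D.obj.left)) := Module.compHom _ (algebraMap A B)
  have _ : IsScalarTower A B (ℓ.Sec (𝟙 D.obj.left)) := ⟨fun a b m => mul_smul (algebraMap A B a) b m⟩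
  let _ : Module B (ℓ.Sec (tgt D)) := Module.compHom _ ((src D ≫ D.obj.hom).appTop.hom.comp eB.toRingHom)
  let _ : Module A (ℓ.Sec (tgt D)) := Module.compHom _ (algebraMap A B)
  have _ : IsScalarTower A B (ℓ.Sec (tgt D)) := ⟨fun a b m => mul_smul (algebraMap A B a) b m⟩
  let _ : Module B (ℓ.Sec (r13 D ≫ tgt D)) :=
    Module.compHom _ (((r12 D ≫ src D) ≫ D.obj.hom).appTop.hom.comp eB.toRingHom)
  let _ : Module A (ℓ.Sec (r13 D ≫ tgt D)) := Module.compHom _ (algebraMap A B)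
  have _ : IsScalarTower A B (ℓ.Sec (r13 D ≫ tgt D)) := ⟨fun a b m => mul_smul (algebraMap A B a) b m⟩
  have hB₁ : ∀ (b : B) (c : ℓ.Sec (𝟙 D.obj.left)), b • c = D.obj.hom.appTop (eB b) • c := fun _ _ => rfl
  have hA₁ : ∀ (a : A) (c : ℓ.Sec (𝟙 D.obj.left)), a • c = (D.obj.hom ≫ p).appTop (eA a) • c := fun _ _ => rfl
  have hB₂ : ∀ (b : B) (c : ℓ.Sec (tgt D)), b • c = (src D ≫ D.obj.hom).appTop (eB b) • c := fun _ _ => rfl
  have hA₂ : ∀ (a : A) (c : ℓ.Sec (tgt D)), a • c = ((src D ≫ D.obj.hom) ≫ p).appTop (eA a) • c := fun _ _ => rfl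
  have hB₃ : ∀ (b : B) (c : ℓ.Sec (r13 D ≫ tgt D)), b • c = ((r12 D ≫ src D) ≫ D.obj.hom).appTop (eB b) • c :=
    fun _ _ => rfl
  have hA₃ : ∀ (a : A) (c : ℓ.Sec (r13 D ≫ tgt D)), a • c = (((r12 D ≫ src D) ≫ D.obj.hom) ≫ p).appTop (eA a) • c :=
    fun _ _ => rfl
  -- base change
  let φ₂ : ℓ.Sec (𝟙 D.obj.left) →ₗ[A] ℓ.Sec (tgt D) :=
    { toFun := ℓ.pull (tgt D) (Category.comp_id _)
      map_add' := map_add _
      map_smul' := fun a m => by
        rw [RingHom.id_apply, hA₁, hA₂, pull_smul]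
        congr 1
        change (tgt D ≫ D.obj.hom ≫ p).appTop (eA a) = _
        rw [cond', Category.assoc] }
  let φ₃ : ℓ.Sec (tgt D) →ₗ[A] ℓ.Sec (r13 D ≫ tgt D) :=
    { toFun := ℓ.pull (r23 D) (r23_tgt D)
      map_add' := map_add _
      map_smul' := fun a m => by
        rw [RingHom.id_apply, hA₂, hA₃, pull_smul]
        congr 1
        change (r23 D ≫ (src D ≫ D.obj.hom) ≫ p).appTop (eA a) = _
        rw [(sq4 D).w] }
  have hqs : QuasiSeparatedSpace (R D) := by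
    have h1 : QuasiSeparated (src D) := inferInstance
    exact quasiSeparatedSpace_of_quasiSeparated (src D)
  have hq : QuasiCompact (tgt D) := tgt_of D @QuasiCompact inferInstance
  have b₂ : IsBaseChange B φ₂ := isBaseChange ℓ (sq_tgt' D) (Category.comp_id _) hW
    (fun j => isQuasiSeparated_preimage _) (fun i j => QuasiSeparatedSpace.inter_isCompact _ _ (ℓ.W i).isOpen (hW i)
      (ℓ.W j).isOpen (hW j)) eA eB halg hA₁ hB₂ φ₂ (fun _ => rfl)
  have b₃ : IsBaseChange B φ₃ := isBaseChange ℓ (sq4 D) (r23_tgt D) (fun j => (tgt D).isCompact_preimage (hW j))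
    (fun j => isQuasiSeparated_preimage _) (fun i j => QuasiSeparatedSpace.inter_isCompact _ _ (tgt D ⁻¹ᵁ ℓ.W i).isOpen
      ((tgt D).isCompact_preimage (hW i)) (tgt D ⁻¹ᵁ ℓ.W j).isOpen ((tgt D).isCompact_preimage (hW j)))
      eA eB halg hA₂ hB₃ φ₃ (fun _ => rfl)
  let δu : ℓ.Sec (𝟙 D.obj.left) →ₗ[B] ℓ.Sec (tgt D) :=
    { toFun := fun m => Ψ.app (ℓ.pull (src D) (Category.comp_id _) m)
      map_add' := fun m m' => by rw [map_add, map_add]
      map_smul' := fun b m => by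
        rw [RingHom.id_apply, hB₁, hB₂, pull_smul, map_smul]
        rfl }
  let d : CoactData A B (ℓ.Sec (𝟙 D.obj.left)) (ℓ.Sec (tgt D)) (ℓ.Sec (𝟙 D.obj.left)) (ℓ.Sec (r13 D ≫ tgt D))
      (ℓ.Sec (r12 D ≫ tgt D)) :=
    { κ₂ := b₂.equiv.toLinearMap
      κ₂_bij := b₂.equiv.bijective
      δu := δu
      t := ℓ.pull (one D) (one_tgt D)
      u := AddMonoidHom.id _
      u_inj := Function.injective_id
      t_κ₂ := fun s m => by
        change ℓ.pull (one D) (one_tgt D) (b₂.equiv (s ⊗ₜ m)) = s • m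
        rw [IsBaseChange.equiv_tmul]
        change ℓ.pull (one D) (one_tgt D) (s • ℓ.pull (tgt D) (Category.comp_id _) m) = _
        rw [hB₂, pull_smul, ℓ.pull_pull (one D) (tgt D) _ _ (𝟙 _) (one_tgt D) (Category.comp_id _), ℓ.pull_id, hB₁]
        congr 1
        change (one D ≫ src D ≫ D.obj.hom).appTop (eB s) = _
        rw [← Category.assoc, one_src, Category.id_comp]
      t_δu := fun m => by
        change ℓ.pull (one D) (one_tgt D) (Ψ.app (ℓ.pull (src D) (Category.comp_id _) m)) = m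
        rw [← Ψ.pull_app (one D) (one_src D) (one_tgt D), ℓ.pull_pull (one D) (src D) _ _ (𝟙 _) (one_src D)
          (Category.comp_id _), ℓ.pull_id, app_eq_self_of_comp h.t1]
      κ₃ := b₃.equiv.toLinearMap.toAddMonoidHom
      κ₃_inj := b₃.equiv.injective
      t₁₂ := ℓ.pull (r12 D) rfl
      δ₂₃ := Ψ.t23.app.toAddMonoidHom
      t₁₃ := ℓ.pull (r13 D) rfl
      κ₃_δu := fun s m => by
        change b₃.equiv (s ⊗ₜ _) = Ψ.t23.app (ℓ.pull (r12 D) rfl (b₂.equiv (s ⊗ₜ m)))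
        rw [IsBaseChange.equiv_tmul, IsBaseChange.equiv_tmul]
        change s • ℓ.pull (r23 D) (r23_tgt D) (Ψ.app (ℓ.pull (src D) (Category.comp_id _) m)) =
          Ψ.t23.app (ℓ.pull (r12 D) rfl (s • ℓ.pull (tgt D) (Category.comp_id _) m))
        rw [hB₂, hB₃, pull_smul, map_smul, ← Ψ.pull_app (r23 D) (r23_src D) (r23_tgt D),
          ℓ.pull_pull (r23 D) (src D) (Category.comp_id _) (r23_src D) (r12 D ≫ tgt D) (r23_src D) (Category.comp_id _),
          ℓ.pull_pull (r12 D) (tgt D) (Category.comp_id _) rfl (r12 D ≫ tgt D) rfl (Category.comp_id _)]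
        rfl
      κ₃_κ₂ := fun s m => by
        change b₃.equiv (s ⊗ₜ b₂.equiv (1 ⊗ₜ m)) = ℓ.pull (r13 D) rfl (b₂.equiv (s ⊗ₜ m))
        rw [IsBaseChange.equiv_tmul, IsBaseChange.equiv_tmul, IsBaseChange.equiv_tmul, one_smul]
        change s • ℓ.pull (r23 D) (r23_tgt D) (ℓ.pull (tgt D) (Category.comp_id _) m) =
          ℓ.pull (r13 D) rfl (s • ℓ.pull (tgt D) (Category.comp_id _) m)
        rw [hB₂, hB₃, pull_smul,
          ℓ.pull_pull (r23 D) (tgt D) (Category.comp_id _) (r23_tgt D) (r13 D ≫ tgt D) (r23_tgt D) (Category.comp_id _),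
          ℓ.pull_pull (r13 D) (tgt D) (Category.comp_id _) rfl (r13 D ≫ tgt D) rfl (Category.comp_id _)]
        congr 1
        change _ = (r13 D ≫ src D ≫ D.obj.hom).appTop (eB s)
        rw [← Category.assoc (r13 D), r13_src]
      cocycle := fun m => by
        change Ψ.t23.app (ℓ.pull (r12 D) rfl (Ψ.app (ℓ.pull (src D) (Category.comp_id _) m))) =
          ℓ.pull (r13 D) rfl (Ψ.app (ℓ.pull (src D) (Category.comp_id _) m))
        rw [← Ψ.pull_app (r12 D) rfl rfl, ← Ψ.pull_app (r13 D) (r13_src D) rfl, Comp.app h, one_smul,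
          ℓ.pull_pull (r12 D) (src D) (Category.comp_id _) rfl (r12 D ≫ src D) rfl (Category.comp_id _),
          ℓ.pull_pull (r13 D) (src D) (Category.comp_id _) (r13_src D) (r12 D ≫ src D) (r13_src D) (Category.comp_id _)] }
  obtain ⟨x, hx⟩ := d.bijective.2 c
  rw [← hx]
  clear hx
  induction x with
  | zero => rw [map_zero]; exact h0
  | add x y hx hy => rw [map_add]; exact hadd _ _ hx hy
  | tmul s m =>
    rw [ofCoinv_tmul]
    refine hsmul (eB s) m.1 (hinv m.1 ?_)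
    have h1 := (d.mem_coinv_iff m.1).1 m.2
    change Ψ.app (ℓ.pull (src D) (Category.comp_id _) m.1) = b₂.equiv (1 ⊗ₜ m.1) at h1
    rw [IsBaseChange.equiv_tmul, one_smul] at h1
    exact h1

end Tr

end K675.Pol
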