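import Groth.Agent.Flat2H.FamOpen

/-!
# Line bundles by cocycles, sections and transports in terms of families

`Line C ι`: a cover `W i` of `C` and a cocycle `g i j` of units; for `v : T ⟶ C`, `Sec ℓ v` is the module of
sections of the pullback to `T` of the corresponding invertible module, as families; `Tr ℓ v v'` is an isomorphism
between the pullbacks along `v` and `v'`, in terms of units `ψ i j` on `v⁻¹ W i ⊓ v'⁻¹ W j`.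
-/

set_option autoImplicit false
universe u

open CategoryTheory CategoryTheory.Limits AlgebraicGeometry TopologicalSpace Opposite

namespace K675.Pol

open Groth.Agent.Fdesc.LocGen Groth.Agent.Flat2H.FamExt

/-! ### Pullback of functions -/

section pb

variable {T T' C : Scheme.{u}}

/-- Pullback of functions. -/
noncomputable def pb (v : T ⟶ C) {U : C.Opens} {V : T.Opens} (e : V ≤ v ⁻¹ᵁ U) : Γ(C, U) →+* Γ(T, V) :=
  (v.appLE U V e).hom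

theorem pb_pb (h : T' ⟶ T) (v : T ⟶ C) {v' : T' ⟶ C} (hv : h ≫ v = v') {U : C.Opens} {V : T.Opens}
    {V' : T'.Opens} (e : V ≤ v ⁻¹ᵁ U) (e' : V' ≤ h ⁻¹ᵁ V) (e'' : V' ≤ v' ⁻¹ᵁ U) (x : Γ(C, U)) :
    pb h e' (pb v e x) = pb v' e'' x := by
  subst hv
  exact congr($(Scheme.Hom.appLE_comp_appLE h v U V V' e e') x)

theorem ores_pb (v : T ⟶ C) {U : C.Opens} {V V' : T.Opens} (e : V ≤ v ⁻¹ᵁ U) (e' : V' ≤ V) (x : Γ(C, U)) :
    ores e' (pb v e x) = pb v (e'.trans e) x :=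
  congr($(Scheme.Hom.appLE_map v e (homOfLE e').op) x)

theorem pb_ores (v : T ⟶ C) {U U' : C.Opens} {V : T.Opens} (e : U' ≤ U) (e' : V ≤ v ⁻¹ᵁ U') (x : Γ(C, U)) :
    pb v e' (ores e x) = pb v (e'.trans (v.preimage_mono e)) x :=
  congr($(Scheme.Hom.map_appLE v e' (homOfLE e).op) x)

theorem pb_app (v : T ⟶ C) {U : C.Opens} (x : Γ(C, U)) : pb v (le_refl (v ⁻¹ᵁ U)) x = v.app U x := by
  rw [pb, Scheme.Hom.appLE_eq_app]

theorem ores_app (v : T ⟶ C) {U : C.Opens} {V : T.Opens} (e : V ≤ v ⁻¹ᵁ U) (x : Γ(C, U)) :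
    ores e (v.app U x) = pb v e x := by
  rw [← pb_app, ores_pb]

theorem pb_id {U V : C.Opens} (e : V ≤ (𝟙 C) ⁻¹ᵁ U) (x : Γ(C, U)) : pb (𝟙 C) e x = ores (show V ≤ U from e) x := by
  change (CommRingCat.Hom.hom (Scheme.Hom.appLE (𝟙 C) U V e)) x = (C.presheaf.map (homOfLE _).op).hom x
  rw [Scheme.Hom.appLE, Scheme.Hom.id_app]
  have h := Category.id_comp (C.presheaf.map (homOfLE e).op)
  exact congrArg (fun f => (CommRingCat.Hom.hom f) x) h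

theorem pb_basicOpen (v : T ⟶ C) {U : C.Opens} {V : T.Opens} (e : V ≤ v ⁻¹ᵁ U) (x : Γ(C, U)) :
    T.basicOpen (pb v e x) = V ⊓ v ⁻¹ᵁ C.basicOpen x := by
  rw [← ores_app, basicOpen_res, Scheme.preimage_basicOpen]

end pb

/-! ### Cocycles and sections -/

/-- cocycle data of a line bundle -/
structure Line (C : Scheme.{u}) (ι : Type) where
  W : ι → C.Opens
  g : ∀ i j, Γ(C, W i ⊓ W j)
  cov : ∀ x : C, ∃ i, x ∈ W i
  coc : ∀ (i j k : ι) {V : C.Opens} (hi : V ≤ W i) (hj : V ≤ W j) (hk : V ≤ W k),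
    ores (le_inf hi hj) (g i j) * ores (le_inf hj hk) (g j k) = ores (le_inf hi hk) (g i k)
  unit : ∀ i j, IsUnit (g i j)

namespace Line

variable {C : Scheme.{u}} {ι : Type} (ℓ : Line C ι)

/-- powers -/
@[reducible] noncomputable def pow (n : ℕ) : Line C ι where
  W := ℓ.W
  g i j := ℓ.g i j ^ n
  cov := ℓ.cov
  coc i j k V hi hj hk := by rw [map_pow, map_pow, map_pow, ← mul_pow, ℓ.coc i j k hi hj hk]
  unit i j := (ℓ.unit i j).pow n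

variable {T T' : Scheme.{u}} (v : T ⟶ C)

/-- The pulled back transition functions -/
noncomputable def gg (i j : ι) {V : T.Opens} (hi : V ≤ v ⁻¹ᵁ ℓ.W i) (hj : V ≤ v ⁻¹ᵁ ℓ.W j) : Γ(T, V) :=
  pb v (U := ℓ.W i ⊓ ℓ.W j) (le_inf hi hj) (ℓ.g i j)

theorem gg_unit (i j : ι) {V : T.Opens} (hi : V ≤ v ⁻¹ᵁ ℓ.W i) (hj : V ≤ v ⁻¹ᵁ ℓ.W j) : IsUnit (ℓ.gg v i j hi hj) :=
  (ℓ.unit i j).map _

theorem ores_gg (i j : ι) {V V' : T.Opens} (hi : V ≤ v ⁻¹ᵁ ℓ.W i) (hj : V ≤ v ⁻¹ᵁ ℓ.W j) (h : V' ≤ V) :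
    ores h (ℓ.gg v i j hi hj) = ℓ.gg v i j (h.trans hi) (h.trans hj) := ores_pb _ _ _ _

theorem pb_gg (h : T' ⟶ T) {v' : T' ⟶ C} (hv : h ≫ v = v') (i j : ι) {V : T.Opens} {V' : T'.Opens}
    (hi : V ≤ v ⁻¹ᵁ ℓ.W i) (hj : V ≤ v ⁻¹ᵁ ℓ.W j) (e : V' ≤ h ⁻¹ᵁ V) (hi' : V' ≤ v' ⁻¹ᵁ ℓ.W i)
    (hj' : V' ≤ v' ⁻¹ᵁ ℓ.W j) :
    pb h e (ℓ.gg v i j hi hj) = ℓ.gg v' i j hi' hj' := pb_pb _ _ hv _ _ _ _

theorem gg_mul (i j k : ι) {V : T.Opens} (hi : V ≤ v ⁻¹ᵁ ℓ.W i) (hj : V ≤ v ⁻¹ᵁ ℓ.W j) (hk : V ≤ v ⁻¹ᵁ ℓ.W k) :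
    ℓ.gg v i j hi hj * ℓ.gg v j k hj hk = ℓ.gg v i k hi hk := by
  have h := congrArg (pb v (U := ℓ.W i ⊓ ℓ.W j ⊓ ℓ.W k) (V := V) (le_inf (le_inf hi hj) hk))
    (ℓ.coc i j k (V := ℓ.W i ⊓ ℓ.W j ⊓ ℓ.W k) (inf_le_left.trans inf_le_left) (inf_le_left.trans inf_le_right)
      inf_le_right)
  rw [map_mul, pb_ores, pb_ores, pb_ores] at h
  exact h

theorem gg_self (i : ι) {V : T.Opens} (hi hi' : V ≤ v ⁻¹ᵁ ℓ.W i) : ℓ.gg v i i hi hi' = 1 :=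
  (ℓ.gg_unit v i i hi hi').mul_left_cancel ((ℓ.gg_mul v i i i hi hi hi').trans (mul_one _).symm)

theorem gg_symm (i j : ι) {V : T.Opens} (hi : V ≤ v ⁻¹ᵁ ℓ.W i) (hj : V ≤ v ⁻¹ᵁ ℓ.W j) :
    ℓ.gg v i j hi hj * ℓ.gg v j i hj hi = 1 := by rw [gg_mul, gg_self]

theorem gg_pow (n : ℕ) (i j : ι) {V : T.Opens} (hi : V ≤ v ⁻¹ᵁ ℓ.W i) (hj : V ≤ v ⁻¹ᵁ ℓ.W j) :
    (ℓ.pow n).gg v i j hi hj = ℓ.gg v i j hi hj ^ n := map_pow _ _ _

theorem cover (x : T) : ∃ i, x ∈ v ⁻¹ᵁ ℓ.W i := ℓ.cov (v x)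

theorem le_iSup (V : T.Opens) : V ≤ ⨆ i, V ⊓ v ⁻¹ᵁ ℓ.W i := by
  intro x hx
  obtain ⟨i, hi⟩ := ℓ.cover v x
  exact Opens.mem_iSup.2 ⟨i, hx, hi⟩

/-- equality can be checked on the pieces -/
theorem ext_of_cover {V : T.Opens} {a b : Γ(T, V)} (h : ∀ (i : ι) {V' : T.Opens} (hV : V' ≤ V)
    (_ : V' ≤ v ⁻¹ᵁ ℓ.W i), ores hV a = ores hV b) : a = b :=
  ores_ext (fun i => V ⊓ v ⁻¹ᵁ ℓ.W i) (fun _ => inf_le_left) (ℓ.le_iSup v V) fun i => h i _ inf_le_right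

theorem glue_of_cover {V : T.Opens} (s : ∀ (i : ι), Γ(T, V ⊓ v ⁻¹ᵁ ℓ.W i))
    (h : ∀ (i j : ι) {V' : T.Opens} (hV : V' ≤ V) (hi : V' ≤ v ⁻¹ᵁ ℓ.W i) (hj : V' ≤ v ⁻¹ᵁ ℓ.W j),
      ores (le_inf hV hi) (s i) = ores (le_inf hV hj) (s j)) :
    ∃ t : Γ(T, V), ∀ (i : ι) {V' : T.Opens} (hV : V' ≤ V) (hi : V' ≤ v ⁻¹ᵁ ℓ.W i),
      ores hV t = ores (le_inf hV hi) (s i) := by
  obtain ⟨t, ht⟩ := ores_glue (fun i => V ⊓ v ⁻¹ᵁ ℓ.W i) (fun _ => inf_le_left) (ℓ.le_iSup v V) s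
    (fun i j => h i j (inf_le_left.trans inf_le_left) (inf_le_left.trans inf_le_right)
      (inf_le_right.trans inf_le_right))
  refine ⟨t, fun i V' hV hi => ?_⟩
  rw [← ht i, ores_ores]

/-- The sections of the pullback of the line bundle along `v`, as families. -/
noncomputable def secSub : AddSubgroup (∀ i, Γ(T, v ⁻¹ᵁ ℓ.W i)) where
  carrier := {c | IsFam (fun i => v ⁻¹ᵁ ℓ.W i) (fun i j => v.app (ℓ.W i ⊓ ℓ.W j) (ℓ.g i j)) c}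
  zero_mem' i j := by
    change ores _ (0 : Γ(T, _)) * _ = ores _ (0 : Γ(T, _))
    rw [map_zero, map_zero, zero_mul]
  add_mem' {a b} ha hb i j := by
    change ores _ (a i + b i) * _ = ores _ (a j + b j)
    rw [map_add, map_add, add_mul, ha i j, hb i j]
  neg_mem' {a} ha i j := by
    change ores _ (-a i) * _ = ores _ (-a j)
    rw [map_neg, map_neg, neg_mul, ha i j]

/-- The sections of the pullback of the line bundle along `v`. -/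
abbrev Sec : Type u := ℓ.secSub v

variable {v}

theorem rel (c : ℓ.Sec v) (i j : ι) {V : T.Opens} (hi : V ≤ v ⁻¹ᵁ ℓ.W i) (hj : V ≤ v ⁻¹ᵁ ℓ.W j) :
    ores hi (c.1 i) * ℓ.gg v i j hi hj = ores hj (c.1 j) := by
  have h := congrArg (ores (le_inf hi hj)) (c.2 i j)
  rw [map_mul, ores_ores, ores_ores] at h
  refine Eq.trans ?_ h
  exact congrArg _ (ores_app v (U := ℓ.W i ⊓ ℓ.W j) _ _).symm

variable (v) in
/-- constructor -/
noncomputable def mkSec (c : ∀ i, Γ(T, v ⁻¹ᵁ ℓ.W i)) (hc : ∀ i j {V : T.Opens} (hi : V ≤ v ⁻¹ᵁ ℓ.W i)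
    (hj : V ≤ v ⁻¹ᵁ ℓ.W j), ores hi (c i) * ℓ.gg v i j hi hj = ores hj (c j)) : ℓ.Sec v :=
  ⟨c, fun i j => by
    have h := hc i j (V := v ⁻¹ᵁ ℓ.W i ⊓ v ⁻¹ᵁ ℓ.W j) inf_le_left inf_le_right
    refine Eq.trans ?_ h
    congr 1
    exact (pb_app v (U := ℓ.W i ⊓ ℓ.W j) _).symm⟩

theorem sec_ext {c d : ℓ.Sec v} (h : ∀ i, c.1 i = d.1 i) : c = d := Subtype.ext (funext h)

noncomputable instance : SMul Γ(T, ⊤) (ℓ.Sec v) where
  smul s c := ℓ.mkSec v (fun i => ores le_top s * c.1 i) fun i j V hi hj => by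
    rw [map_mul, map_mul, ores_ores, ores_ores, mul_assoc, ℓ.rel c]

theorem smul_val (s : Γ(T, ⊤)) (c : ℓ.Sec v) (i : ι) : (s • c).1 i = ores le_top s * c.1 i := rfl

theorem add_val (c d : ℓ.Sec v) (i : ι) : (c + d).1 i = c.1 i + d.1 i := rfl

theorem zero_val (i : ι) : (0 : ℓ.Sec v).1 i = 0 := rfl

noncomputable instance : Module Γ(T, ⊤) (ℓ.Sec v) where
  one_smul c := ℓ.sec_ext fun i => by rw [smul_val, map_one, one_mul]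
  mul_smul s t c := ℓ.sec_ext fun i => by rw [smul_val, smul_val, smul_val, map_mul, mul_assoc]
  smul_zero s := ℓ.sec_ext fun i => by rw [smul_val, zero_val, mul_zero]
  smul_add s c d := ℓ.sec_ext fun i => by rw [smul_val, add_val, add_val, smul_val, smul_val, mul_add]
  add_smul s t c := ℓ.sec_ext fun i => by rw [smul_val, add_val, smul_val, smul_val, map_add, add_mul]
  zero_smul c := ℓ.sec_ext fun i => by rw [smul_val, map_zero, zero_mul, zero_val]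

/-- pullback of sections -/
noncomputable def pull (h : T' ⟶ T) {v' : T' ⟶ C} (hv : h ≫ v = v') : ℓ.Sec v →+ ℓ.Sec v' where
  toFun c := ℓ.mkSec v' (fun i => pb h (by rw [← hv]; rfl) (c.1 i)) fun i j V hi hj => by
    subst hv
    rw [ores_pb, ores_pb, ← ℓ.pb_gg v h rfl i j (V := v ⁻¹ᵁ ℓ.W i ⊓ v ⁻¹ᵁ ℓ.W j) inf_le_left inf_le_right
      (le_inf hi hj)]
    have h1 := congrArg (pb h (le_inf hi hj)) (ℓ.rel c i j (V := v ⁻¹ᵁ ℓ.W i ⊓ v ⁻¹ᵁ ℓ.W j) inf_le_left inf_le_right)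
    rw [map_mul, pb_ores, pb_ores] at h1
    exact h1
  map_zero' := ℓ.sec_ext fun i => map_zero _
  map_add' c d := ℓ.sec_ext fun i => map_add _ _ _

theorem pull_val (h : T' ⟶ T) {v' : T' ⟶ C} (hv : h ≫ v = v') (c : ℓ.Sec v) (i : ι) :
    (ℓ.pull h hv c).1 i = pb h (by rw [← hv]; rfl) (c.1 i) := rfl

theorem pull_smul (h : T' ⟶ T) {v' : T' ⟶ C} (hv : h ≫ v = v') (s : Γ(T, ⊤)) (c : ℓ.Sec v) :
    ℓ.pull h hv (s • c) = h.appTop s • ℓ.pull h hv c := by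
  refine ℓ.sec_ext fun i => ?_
  rw [pull_val, smul_val, smul_val, pull_val, map_mul, pb_ores]
  exact congrArg (· * _) (ores_app h (U := ⊤) _ s).symm

theorem pull_pull {T'' : Scheme.{u}} (h' : T'' ⟶ T') (h : T' ⟶ T) {v' : T' ⟶ C} (hv : h ≫ v = v') {v'' : T'' ⟶ C}
    (hv' : h' ≫ v' = v'') (k : T'' ⟶ T) (hk : h' ≫ h = k) (hkv : k ≫ v = v'') (c : ℓ.Sec v) :
    ℓ.pull h' hv' (ℓ.pull h hv c) = ℓ.pull k hkv c :=
  ℓ.sec_ext fun i => by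
    rw [pull_val, pull_val, pull_val, pb_pb h' h hk]

theorem pull_id (hv : 𝟙 T ≫ v = v) (c : ℓ.Sec v) : ℓ.pull (𝟙 T) hv c = c :=
  ℓ.sec_ext fun i => by
    rw [pull_val, pb_id, ores_refl]

end Line

end K675.Pol
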