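import Groth.Agent.Desc.K388.LocEff
import Groth.Agent.VecBal.K812.Iface
import Groth.Agent.Flat2H.FamOpen

/-!
# Polarized descent data: localization on the base and refinement of the cover
-/

set_option autoImplicit false
set_option backward.isDefEq.respectTransparency false
set_option backward.isDefEq.respectTransparency.types false
open CategoryTheory CategoryTheory.Limits AlgebraicGeometry Opposite
universe u

namespace K675.PullDD

open _root_.Desc Groth.Agent.Desc.SecFunctor Groth.Agent.Desc.SecPresheaf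
  Groth.Agent.Desc.SecDescent Groth.Agent.Picfga.OverRep Groth.Agent.Desc.ZarGlue Groth.Agent.Desc.StableDD
  K388.DDGrpd Groth.Agent.VecBal.K812.Iface

variable {X S X₀ S₀ : Scheme.{u}} {p : X ⟶ S} {p₀ : X₀ ⟶ S₀} {j : S₀ ⟶ S} {a : X₀ ⟶ X}

theorem ev_secPoint_symm (D : SchDD p) {T : Over S} (x : T.left ⟶ X) (hx : x ≫ p = T.hom) (v : Lifts D.obj x)
    (h : x ≫ p = 𝟙 T.left ≫ T.hom) : (ev ((secPoint D x hx).symm v) (𝟙 T.left) x h) = v :=
  (secPoint D x hx).apply_symm_apply v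

theorem homEquiv_pullRepSq (ha : p₀ ≫ j = a ≫ p) (D : SchDD p) {Y : Over X₀}
    (g : Y ⟶ (Over.pullback a).obj D.obj) :
    ∃ θ : (Over.map j).obj ((Over.map p₀).obj Y) ⟶ (Over.map p).obj ((Over.map a).obj Y), θ.left = 𝟙 Y.left ∧
      (pullRepSq ha (restrRep D)).homEquiv g = (secFunctor D).map θ.op
        ((restrRep D).homEquiv (((Over.mapPullbackAdj a).homEquiv Y D.obj).symm g)) := by
  refine ⟨Over.homMk (𝟙 Y.left) (by
    change 𝟙 Y.left ≫ (Y.hom ≫ a) ≫ p = (Y.hom ≫ p₀) ≫ j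
    rw [Category.id_comp, Category.assoc, Category.assoc, ha]), rfl, ?_⟩
  have h0 : ∀ (s : (secFunctor D).obj (op ((Over.map p).obj ((Over.map a).obj Y)))) {B : Over S}
      (f₁ : B ⟶ (Over.map p).obj ((Over.map a).obj Y)) {B' : Over S} (f₂ : B' ⟶ B),
      (secFunctor D).map f₂.op ((secFunctor D).map f₁.op s) = (secFunctor D).map (f₂ ≫ f₁).op s := by
    intro s B f₁ B' f₂
    rw [← ConcreteCategory.comp_apply, ← Functor.map_comp, ← op_comp]
  refine (h0 _ _ _).trans ?_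
  congr 3

theorem ev_ptEquiv (ha : p₀ ≫ j = a ≫ p) (D : SchDD p) {T : Over S₀} (x : T.left ⟶ X₀) (hx : x ≫ p₀ = T.hom)
    (v : Lifts ((Over.pullback a).obj D.obj) x) (h : (x ≫ a) ≫ p = 𝟙 T.left ≫ T.hom ≫ j) :
    (ev (D := D) (T := (Over.map j).obj T) (ptEquiv (pullRepSq ha (restrRep D)) x hx v) (𝟙 T.left) (x ≫ a) h).1 =
      v.1 ≫ pullback.fst D.obj.hom a := by
  obtain ⟨θ, hθ, e⟩ := homEquiv_pullRepSq ha D (Over.homMk v.1 v.2 : Over.mk x ⟶ (Over.pullback a).obj D.obj)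
  set s₀ : (secFunctor D).obj (op ((Over.map p).obj ((Over.map a).obj (Over.mk x)))) :=
    (restrRep D).homEquiv (((Over.mapPullbackAdj a).homEquiv _ D.obj).symm
          (Over.homMk v.1 v.2 : Over.mk x ⟶ (Over.pullback a).obj D.obj)) with hs₀
  have e1 : ptEquiv (pullRepSq ha (restrRep D)) x hx v = (secFunctor D).map ((Over.map j).map (ptIso x hx).hom).op
      ((secFunctor D).map θ.op s₀) := by
    refine (ptEquiv_apply _ x hx v).trans ?_
    exact congrArg (fun s => (secFunctor D).map (((Over.map j).map (ptIso x hx).hom).op) s) e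
  have w1 : (x ≫ a) ≫ p = (x ≫ p₀) ≫ j := by rw [Category.assoc, ← ha, Category.assoc]
  have h1 := ev_map (D := D) ((Over.map j).map (ptIso x hx).hom) ((secFunctor D).map θ.op s₀) (𝟙 T.left) (x ≫ a) h
    (by
      change _ = (𝟙 T.left ≫ 𝟙 T.left) ≫ (x ≫ p₀) ≫ j
      rw [Category.comp_id, Category.id_comp, w1])
  have h2 := ev_map (D := D) θ s₀ (𝟙 T.left ≫ 𝟙 T.left) (x ≫ a) (by
      change _ = (𝟙 T.left ≫ 𝟙 T.left) ≫ (x ≫ p₀) ≫ j
      rw [Category.comp_id, Category.id_comp, w1]) (by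
      change _ = ((𝟙 T.left ≫ 𝟙 T.left) ≫ θ.left) ≫ (x ≫ a) ≫ p
      rw [hθ]
      change _ = ((𝟙 T.left ≫ 𝟙 T.left) ≫ 𝟙 T.left) ≫ (x ≫ a) ≫ p
      rw [Category.comp_id, Category.comp_id, Category.id_comp])
  have h3 : (x ≫ a) ≫ p = 𝟙 T.left ≫ (x ≫ a) ≫ p := (Category.id_comp _).symm
  have h4 := ev_secPoint_symm D (T := (Over.map p).obj ((Over.map a).obj (Over.mk x))) (x ≫ a) rfl
    ⟨v.1 ≫ pullback.fst D.obj.hom a, by
      have := v.2
      change v.1 ≫ pullback.snd D.obj.hom a = x at this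
      rw [Category.assoc, pullback.condition, ← Category.assoc, this]⟩ h3
  rw [e1]
  refine (congrArg Subtype.val (h1.trans h2)).trans ?_
  refine (ev_congr (D := D) s₀ (z' := 𝟙 T.left) (x' := x ≫ a) ?_ rfl _ h3).trans ?_
  · rw [hθ]
    exact (Category.comp_id _).trans (Category.comp_id _)
  · refine (congrArg Subtype.val ?_).trans (congrArg Subtype.val h4)
    congr 1

/-- The datum induced on a cover of (a part of) the base. -/
noncomputable abbrev D0 (ha : p₀ ≫ j = a ≫ p) (D : SchDD p) : SchDD p₀ := ofPresheaf (pullRepSq ha (restrRep D))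

theorem D0_φ (ha : p₀ ≫ j = a ≫ p) (D : SchDD p) {T : Scheme.{u}} (x₀ x₁ : T ⟶ X₀) (h : x₀ ≫ p₀ = x₁ ≫ p₀)
    (v : Lifts (D0 ha D).obj x₀) {y₀ y₁ : T ⟶ X} (hy₀ : y₀ = x₀ ≫ a) (hy₁ : y₁ = x₁ ≫ a) (h' : y₀ ≫ p = y₁ ≫ p)
    (w : Lifts D.obj y₀) (hw : w.1 = v.1 ≫ pullback.fst D.obj.hom a) :
    ((D0 ha D).φ x₀ x₁ h v).1 ≫ pullback.fst D.obj.hom a = (D.φ y₀ y₁ h' w).1 := by
  subst hy₀ hy₁
  have h0 : (x₀ ≫ a) ≫ p = 𝟙 T ≫ (x₀ ≫ p₀) ≫ j := by
    rw [Category.id_comp, Category.assoc, ← ha, Category.assoc]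
  have h1 : (x₁ ≫ a) ≫ p = 𝟙 T ≫ (x₀ ≫ p₀) ≫ j := by
    rw [← h', h0]
  have e0 := ev_ptEquiv ha D (T := Over.mk (x₀ ≫ p₀)) x₀ rfl v h0
  have e1 := ev_ptEquiv ha D (T := Over.mk (x₀ ≫ p₀)) x₁ h.symm ((D0 ha D).φ x₀ x₁ h v) h1
  have e2 : ptEquiv (pullRepSq ha (restrRep D)) (T := Over.mk (x₀ ≫ p₀)) x₁ h.symm ((D0 ha D).φ x₀ x₁ h v) =
      ptEquiv (pullRepSq ha (restrRep D)) (T := Over.mk (x₀ ≫ p₀)) x₀ rfl v :=
    Equiv.apply_symm_apply _ _
  rw [e2] at e1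
  refine e1.symm.trans ?_
  refine (congrArg Subtype.val (φ_ev (D := D) (T := (Over.map j).obj (Over.mk (x₀ ≫ p₀))) _ (𝟙 T) (x₀ ≫ a) (x₁ ≫ a)
    h0 h1)).symm.trans ?_
  exact φ_congr D _ _ rfl rfl _ _ (e0.trans hw.symm)

/-- The polarization of the induced datum. -/
theorem polDatum_D0 (ha : p₀ ≫ j = a ≫ p) (D : SchDD p) {L : D.obj.left.Modules} (hP : PolDatum p D L) :
    PolDatum p₀ (D0 ha D) ((Scheme.Modules.pullback (pullback.fst D.obj.hom a)).obj L) := by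
  intro Z hZ x₀ x₁ h T t v sq
  have sq' : IsPullback (v ≫ pullback.fst D.obj.hom a) t D.obj.hom (x₀ ≫ a) :=
    sq.paste_horiz (IsPullback.of_hasPullback D.obj.hom a)
  have h' : (x₀ ≫ a) ≫ p = (x₁ ≫ a) ≫ p := by
    rw [Category.assoc, Category.assoc, ← ha, ← Category.assoc, h, Category.assoc]
  obtain ⟨φ⟩ := hP Z hZ (x₀ ≫ a) (x₁ ≫ a) h' T t _ sq'
  have e := D0_φ ha D (t ≫ x₀) (t ≫ x₁) (by rw [Category.assoc, Category.assoc, h]) ⟨v, sq.w⟩
    (Category.assoc t x₀ a).symm (Category.assoc t x₁ a).symm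
    (by rw [Category.assoc t (x₀ ≫ a) p, Category.assoc t (x₁ ≫ a) p, h'])
    ⟨v ≫ pullback.fst D.obj.hom a, sq'.w⟩ rfl
  refine ⟨(Scheme.Modules.pullbackComp v (pullback.fst D.obj.hom a)).app L ≪≫ φ ≪≫ ?_⟩
  refine (Scheme.Modules.pullbackCongr e.symm).app L ≪≫ ((Scheme.Modules.pullbackComp _ _).app L).symm

/-- Effectivity can be checked locally on the base, after refining the cover. -/
theorem effective_of_local (D : SchDD p)
    (hloc : ∀ s : S, ∃ (S₀ : S.Opens) (X₀ : Scheme.{u}) (a : X₀ ⟶ X) (p₀ : X₀ ⟶ S₀.toScheme)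
      (ha : p₀ ≫ S₀.ι = a ≫ p), s ∈ S₀ ∧ IsAffineOpen S₀ ∧ IsAffine X₀ ∧ Flat p₀ ∧ Surjective p₀ ∧
      ∃ U : Over S₀.toScheme, Nonempty ((toDD p₀).obj U ≅ D0 ha D)) :
    ∃ U : Over S, Nonempty ((toDD p).obj U ≅ D) := by
  have key : ∀ s : S, ∃ (S₀ : S.Opens) (U : Over S₀.toScheme), s ∈ S₀ ∧
      Nonempty ((restr S₀.ι (secFunctor D)).RepresentableBy U) := by
    intro s
    obtain ⟨S₀, X₀, a, p₀, ha, hs, hS₀, hX₀, h1, h2, U, ⟨i⟩⟩ := hloc s
    have hS₀' : IsAffine S₀.toScheme := hS₀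
    have h4 : (toDD p₀).Full := Groth.Agent.Desc.AffineEff.toDD_full p₀
    have h5 : (toDD p₀).Faithful := Groth.Agent.Desc.AffineEff.toDD_faithful p₀
    exact ⟨S₀, U, hs, ⟨representableByOfEffective (pullRepSq ha (restrRep D))
      (K388.LocEff.isPSheaf_of_fpqc D p₀ S₀.ι) i⟩⟩
  choose W U hW e using key
  obtain ⟨H, ⟨r⟩, -⟩ := exists_rep_of_openCover W (fun s => ⟨s, hW s⟩) U (fun s => (e s).some)
    (Groth.Agent.Desc.ZarSec.isZarSheaf_secFunctor D)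
  exact ⟨H, effective_of_representableBy r⟩

end K675.PullDD
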