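import Groth.Agent.VecBal.K675.Rank
import Groth.Agent.VecBal.K675.PullDD

/-!
# Local freeness after a flat cover, global generation, pullback of lines
-/

set_option autoImplicit false
universe u

open CategoryTheory CategoryTheory.Limits AlgebraicGeometry TopologicalSpace Opposite

namespace K675.Pol

open Groth.Agent.Fdesc.LocGen Groth.Agent.Flat2H.FamExt Groth.Agent.Flat2H.FamDict Groth.Agent.Flat2H.FamOpen Line
open _root_.Desc K388.DDGrpd Groth.Agent.Desc.StableDD Groth.Agent.VecBal.K812.Iface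

theorem exists_local {X S : Scheme.{u}} (p : X ⟶ S) [IsAffine X] [IsAffine S] [Flat p] [Surjective p] {r : X → ℕ}
    (hr : IsLocallyConstant r) (hr' : ∀ {x y : X}, p x = p y → r x = r y) (s : S) :
    ∃ (N : ℕ) (S₀ : S.Opens), s ∈ S₀ ∧ IsAffineOpen S₀ ∧ ∀ x : X, p x ∈ S₀ → r x = N := by
  obtain ⟨x, rfl⟩ := p.surjective s
  have hU : IsOpen (r ⁻¹' {r x}) := hr.isOpen_fiber (r x)
  have hpre : p ⁻¹' (p '' (r ⁻¹' {r x})) = r ⁻¹' {r x} := by
    apply Set.Subset.antisymm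
    · rintro y ⟨z, hz, hzy⟩
      exact (hr' hzy).symm.trans hz
    · exact Set.subset_preimage_image _ _
  have hV : IsOpen (p '' (r ⁻¹' {r x})) := by
    rw [← (Flat.isQuotientMap_of_surjective p).isOpen_preimage, hpre]
    exact hU
  obtain ⟨S₀, hS₀, hx, hle⟩ := exists_isAffineOpen_mem_and_subset (X := S) (U := ⟨_, hV⟩) (x := p x) ⟨x, rfl, rfl⟩
  refine ⟨r x, S₀, hx, hS₀, fun y hy => ?_⟩
  have h1 : y ∈ p ⁻¹' (p '' (r ⁻¹' {r x})) := hle hy
  rw [hpre] at h1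
  exact h1

/-- Global generation of a large power. -/
theorem exists_gg {C : Scheme.{u}} {L : C.Modules} (hL : CohB1.IsAmple L) {ι : Type} {W : ι → C.Opens}
    {g : ∀ i j, Γ(C, W i ⊓ W j)} (h : Trivs L W g) (d₀ : ℕ) :
    ∃ n : ℕ, 0 < n ∧ d₀ ≤ n ∧ ∀ y : C, ∃ (c : ((lineOf h).pow n).Sec (𝟙 C)) (j : ι),
      y ∈ C.basicOpen (c.1 j) := by
  obtain ⟨hc, hx⟩ := h.isAmple_iff.1 hL
  choose m b hb hxb hba using hx
  obtain ⟨t, ht⟩ := isCompact_univ.elim_finite_subcover (fun x : C ↦ ((⨆ j, C.basicOpen (b x j) : C.Opens) : Set C))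
    (fun x ↦ (⨆ j, C.basicOpen (b x j) : C.Opens).isOpen) (fun x _ ↦ Set.mem_iUnion.2 ⟨x, hxb x⟩)
  have hpos : 0 < ∏ x ∈ t, (m x + 1) := Finset.prod_pos fun x _ => Nat.succ_pos _
  refine ⟨(∏ x ∈ t, (m x + 1)) * (d₀ + 1), Nat.mul_pos hpos (Nat.succ_pos _), ?_, fun y => ?_⟩
  · calc d₀ ≤ d₀ + 1 := Nat.le_succ _
      _ = 1 * (d₀ + 1) := (one_mul _).symm
      _ ≤ _ := Nat.mul_le_mul_right _ hpos
  · obtain ⟨x, hxt, hy⟩ := Set.mem_iUnion₂.1 (ht (Set.mem_univ y))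
    obtain ⟨j, hj⟩ := Opens.mem_iSup.1 hy
    obtain ⟨k, hk⟩ := Finset.dvd_prod_of_mem (fun x => m x + 1) hxt
    have hk0 : 0 < k * (d₀ + 1) := by
      refine Nat.mul_pos (Nat.pos_of_ne_zero fun h0 => ?_) (Nat.succ_pos _)
      rw [h0, mul_zero] at hk
      exact hpos.ne' hk
    have hn : (∏ x ∈ t, (m x + 1)) * (d₀ + 1) = (m x + 1) * (k * (d₀ + 1)) := by
      rw [hk, mul_assoc]
    refine ⟨((lineOf h).pow _).mkSec (𝟙 C) (fun i => (b x i ^ (k * (d₀ + 1)) : Γ(C, W i))) ?_, j, ?_⟩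
    · intro i i' V hi hi'
      have e : ((lineOf h).pow ((∏ x ∈ t, (m x + 1)) * (d₀ + 1))).gg (𝟙 C) i i' hi hi' =
          ores (show V ≤ W i ⊓ W i' from le_inf hi hi') (g i i' ^ ((∏ x ∈ t, (m x + 1)) * (d₀ + 1))) := pb_id _ _
      rw [e]
      have h1 := congrArg (ores (show V ≤ W i ⊓ W i' from le_inf hi hi')) (hb x i i')
      rw [map_mul, ores_ores, ores_ores] at h1
      have h2 := congrArg (· ^ (k * (d₀ + 1))) h1
      dsimp only at h2
      rw [mul_pow, ← map_pow, ← map_pow, ← map_pow, ← pow_mul, ← hn] at h2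
      exact h2
    · change y ∈ C.basicOpen (b x j ^ (k * (d₀ + 1)))
      rw [Scheme.basicOpen_pow _ _ hk0]
      exact hj

/-- Sections of a power of the pulled back line. -/
theorem exists_pullEquiv {C T : Scheme.{u}} {L : C.Modules} {ι : Type} {W : ι → C.Opens}
    {g : ∀ i j, Γ(C, W i ⊓ W j)} (h : Trivs L W g) (v : T ⟶ C) (n : ℕ) :
    ∃ e : ((lineOf h).pow n).Sec v ≃+ ((lineOf (h.pullback v)).pow n).Sec (𝟙 T),
      ∀ (a : Γ(T, ⊤)) (c : ((lineOf h).pow n).Sec v), e (a • c) = a • e c := by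
  have hgg : ∀ (i j : ι) {V : T.Opens} (hi : V ≤ v ⁻¹ᵁ W i) (hj : V ≤ v ⁻¹ᵁ W j),
      ((lineOf (h.pullback v)).pow n).gg (𝟙 T) i j hi hj = ((lineOf h).pow n).gg v i j hi hj := by
    intro i j V hi hj
    rw [gg_pow, gg_pow]
    congr 1
  refine ⟨{ toFun := fun c => ((lineOf (h.pullback v)).pow n).mkSec (𝟙 T) (fun i => (c.1 i : Γ(T, v ⁻¹ᵁ W i))) ?_
            invFun := fun c => ((lineOf h).pow n).mkSec v (fun i => (c.1 i : Γ(T, v ⁻¹ᵁ W i))) ?_
            left_inv := fun c => rfl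
            right_inv := fun c => rfl
            map_add' := fun c c' => rfl }, fun a c => rfl⟩
  · intro i j V hi hj
    rw [hgg i j hi hj]
    exact ((lineOf h).pow n).rel c i j hi hj
  · intro i j V hi hj
    rw [← hgg i j hi hj]
    exact ((lineOf (h.pullback v)).pow n).rel c i j hi hj

theorem IsB.equiv {C C' T : Scheme.{u}} {ι ι' : Type} {ℓ : Line C ι} {ℓ' : Line C' ι'} {v : T ⟶ C} {v' : T ⟶ C'}
    (e : ℓ.Sec v ≃+ ℓ'.Sec v') (he : ∀ (a : Γ(T, ⊤)) (c : ℓ.Sec v), e (a • c) = a • e c) {B : Type u} [CommRing B]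
    {ρ : B →+* Γ(T, ⊤)} {N : ℕ} {b : Fin N → ℓ.Sec v} (hb : IsB ρ b) : IsB ρ (fun i => e (b i)) where
  span c := by
    obtain ⟨a, ha⟩ := hb.span (e.symm c)
    refine ⟨a, ?_⟩
    have := congrArg e ha
    rw [e.apply_symm_apply, map_sum] at this
    rw [this]
    exact Finset.sum_congr rfl fun i _ => he _ _
  indep a ha := by
    refine hb.indep a (e.injective ?_)
    rw [map_sum, map_zero, ← ha]
    exact Finset.sum_congr rfl fun i _ => he _ _

end K675.Pol
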