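import Groth.Agent.VecBal.K675.FinProj
import Groth.Agent.VecBal.K675.AlgCover

/-!
# The rank of the sections of a polarization is constant along the fibres of the cover
-/

set_option autoImplicit false
universe u

open CategoryTheory CategoryTheory.Limits AlgebraicGeometry TopologicalSpace Opposite

namespace K675.Pol

open Groth.Agent.Fdesc.LocGen Groth.Agent.Flat2H.FamExt Groth.Agent.Flat2H.FamDict Groth.Agent.Flat2H.FamOpen Line
open _root_.Desc K388.DDGrpd Groth.Agent.Desc.StableDD Groth.Agent.VecBal.K812.Iface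

/-- The rank of the sections at a point. -/
noncomputable def rk {C T Z : Scheme.{u}} {ι : Type} (ℓ : Line C ι) (v : T ⟶ C) (q : T ⟶ Z) [IsAffine Z] (ζ : Z) : ℕ :=
  letI := modA ℓ v q.appTop.hom
  Module.rankAtStalk (R := Γ(Z, ⊤)) (ℓ.Sec v) (Z.isoSpec.hom ζ)

theorem rk_tr {C T Z : Scheme.{u}} {ι : Type} {ℓ : Line C ι} {v v' : T ⟶ C} (Ψ : Tr ℓ v v') (q : T ⟶ Z) [IsAffine Z]
    (ζ : Z) : rk ℓ v q ζ = rk ℓ v' q ζ := by
  let _ := modA ℓ v q.appTop.hom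
  let _ := modA ℓ v' q.appTop.hom
  let e : ℓ.Sec v ≃ₗ[Γ(Z, ⊤)] ℓ.Sec v' :=
    { Equiv.ofBijective Ψ.app Ψ.app_bijective with
      map_add' := map_add Ψ.app
      map_smul' := fun a m => map_smul Ψ.app (q.appTop a) m }
  exact congrFun (Module.rankAtStalk_eq_of_equiv e) _

variable {C T X Z : Scheme.{u}} {ι : Type} [Finite ι] (ℓ : Line C ι)

theorem rk_pull [IsAffine X] [IsAffine Z] [QuasiSeparatedSpace C] {v : T ⟶ C} {q : T ⟶ Z} {f : C ⟶ X} {z : Z ⟶ X}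
    (H : IsPullback v q f z) [Flat z] (hW : ∀ j, IsCompact (ℓ.W j : Set C))
    (hfp : letI := modA ℓ (𝟙 C) f.appTop.hom
       Module.Finite Γ(X, ⊤) (ℓ.Sec (𝟙 C)) ∧ Module.Projective Γ(X, ⊤) (ℓ.Sec (𝟙 C))) (ζ : Z) :
    rk ℓ v q ζ = rk ℓ (𝟙 C) f (z ζ) := by
  let A : Type u := Γ(X, ⊤)
  let B : Type u := Γ(Z, ⊤)
  let _ : CommRing A := inferInstanceAs (CommRing Γ(X, ⊤))
  let _ : CommRing B := inferInstanceAs (CommRing Γ(Z, ⊤))
  let eA : A ≃+* Γ(X, ⊤) := RingEquiv.refl _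
  let eB : B ≃+* Γ(Z, ⊤) := RingEquiv.refl _
  let _ : Algebra A B := z.appTop.hom.toAlgebra
  have halg : ∀ a, eB (algebraMap A B a) = z.appTop (eA a) := fun a => rfl
  let iA : Module A (ℓ.Sec (𝟙 C)) := modA ℓ (𝟙 C) f.appTop.hom
  let _ : Module B (ℓ.Sec v) := modA ℓ v q.appTop.hom
  let _ : Module A (ℓ.Sec v) := Module.compHom _ (algebraMap A B)
  have _ : IsScalarTower A B (ℓ.Sec v) := ⟨fun a b m => mul_smul (algebraMap A B a) b m⟩
  have hA₁ : ∀ (a : A) (c : ℓ.Sec (𝟙 C)), a • c = f.appTop (eA a) • c := fun _ _ => rfl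
  have hB₂ : ∀ (b : B) (c : ℓ.Sec v), b • c = q.appTop (eB b) • c := fun _ _ => rfl
  have hA₂ : ∀ (a : A) (c : ℓ.Sec v), a • c = (q ≫ z).appTop (eA a) • c := fun _ _ => rfl
  let φ : ℓ.Sec (𝟙 C) →ₗ[A] ℓ.Sec v :=
    { toFun := ℓ.pull v (Category.comp_id _)
      map_add' := map_add _
      map_smul' := fun a m => by
        rw [RingHom.id_apply, hA₁, hA₂, pull_smul, ← H.w]
        rfl }
  have bc : IsBaseChange B φ := isBaseChange ℓ H (Category.comp_id _) hW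
    (fun j => IsQuasiSeparated.of_quasiSeparatedSpace _) (fun i j => QuasiSeparatedSpace.inter_isCompact _ _ (ℓ.W i).isOpen (hW i)
      (ℓ.W j).isOpen (hW j)) eA eB halg hA₁ hB₂ φ (fun _ => rfl)
  have h1 : Module.Finite A (ℓ.Sec (𝟙 C)) := hfp.1
  have h2 : Module.Projective A (ℓ.Sec (𝟙 C)) := hfp.2
  have h3 := Module.rankAtStalk_isBaseChange bc (Z.isoSpec.hom ζ)
  refine h3.trans ?_
  have h4 : PrimeSpectrum.comap (algebraMap A B) (Z.isoSpec.hom ζ) = X.isoSpec.hom (z ζ) := by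
    rw [← Scheme.Hom.comp_apply, ← Scheme.isoSpec_hom_naturality]
    rfl
  rw [h4]
  rfl

section fib

variable {S : Scheme.{u}} {p : X ⟶ S} {D : SchDD p} {ℓ : Line D.obj.left ι}

theorem rk_fib [IsAffine X] [IsAffine S] [Flat p] (Ψ : Tr ℓ (src D) (tgt D)) [QuasiSeparatedSpace D.obj.left]
    (hW : ∀ j, IsCompact (ℓ.W j : Set D.obj.left))
    (hfp : letI := modA ℓ (𝟙 D.obj.left) D.obj.hom.appTop.hom
       Module.Finite Γ(X, ⊤) (ℓ.Sec (𝟙 D.obj.left)) ∧ Module.Projective Γ(X, ⊤) (ℓ.Sec (𝟙 D.obj.left)))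
    {x y : X} (h : p x = p y) : rk ℓ (𝟙 _) D.obj.hom x = rk ℓ (𝟙 _) D.obj.hom y := by
  obtain ⟨ζ, rfl, rfl⟩ := Scheme.Pullback.exists_preimage_pullback x y h
  rw [← rk_pull ℓ (sq_src D) hW hfp ζ, ← rk_pull ℓ (sq_tgt D) hW hfp ζ, rk_tr Ψ]

theorem rk_isLocallyConstant [IsAffine X] {f : C ⟶ X} {ℓ : Line C ι}
    (hfp : letI := modA ℓ (𝟙 C) f.appTop.hom
       Module.Finite Γ(X, ⊤) (ℓ.Sec (𝟙 C)) ∧ Module.Projective Γ(X, ⊤) (ℓ.Sec (𝟙 C))) :
    IsLocallyConstant (rk ℓ (𝟙 C) f) := by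
  let _ := modA ℓ (𝟙 C) f.appTop.hom
  have h1 := hfp.1
  have h2 := hfp.2
  have h3 : Module.FinitePresentation Γ(X, ⊤) (ℓ.Sec (𝟙 C)) := Module.finitePresentation_of_projective _ _
  exact (Module.isLocallyConstant_rankAtStalk (R := Γ(X, ⊤)) (M := ℓ.Sec (𝟙 C))).comp_continuous
    X.isoSpec.hom.continuous

end fib

end K675.Pol
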