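import Groth.Agent.VecBal.K675.Det
import Groth.Agent.VecBal.K812.Iface
import Groth.Agent.S0981

/-!
# From modules to families: lines, transports; effectivity when the sections are free
-/

set_option autoImplicit false
universe u

open CategoryTheory CategoryTheory.Limits AlgebraicGeometry TopologicalSpace Opposite

namespace K675.Pol

open Groth.Agent.Fdesc.LocGen Groth.Agent.Flat2H.FamExt Groth.Agent.Flat2H.FamDict Groth.Agent.Flat2H.FamOpen Line
open _root_.Desc K388.DDGrpd Groth.Agent.Desc.StableDD Groth.Agent.VecBal.K812.Iface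

/-- The cocycle of trivializations. -/
@[reducible] noncomputable def lineOf {C : Scheme.{u}} {ι : Type} {L : C.Modules} {W : ι → C.Opens} {g : ∀ i j, Γ(C, W i ⊓ W j)}
    (h : Trivs L W g) : Line C ι where
  W := W
  g := g
  cov := h.1
  coc i j k _ hi hj hk := h.cocycle i j k hi hj hk
  unit := h.isUnit

theorem res_rel {T : Scheme.{u}} {M : T.Modules} {U U' O V : T.Opens} (hU : O ≤ U) (hU' : O ≤ U') (hV : V ≤ O)
    (e : Γ(M, U)) (e' : Γ(M, U')) (a : Γ(T, O)) (h : res M hU e = a • res M hU' e') :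
    res M (hV.trans hU) e = ores hV a • res M (hV.trans hU') e' := by
  have := congrArg (res M hV) h
  rwa [res_smul, res_res, res_res] at this

theorem smul_chain {T : Scheme.{u}} {M : T.Modules} {V : T.Opens} {x x' y y' : Γ(M, V)} {a b c d : Γ(T, V)}
    (hy' : IsGen y') (r1 : x = b • y) (r2 : x' = d • y') (r3 : x' = a • x) (r4 : y = c • y') : a * b * c = d := by
  refine hy'.ext ?_
  rw [← r2, r3, r1, r4, ← mul_smul, ← mul_smul, mul_assoc]

/-- An isomorphism of pullbacks gives a transport. -/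
theorem exists_tr {C T : Scheme.{u}} {ι : Type} {L : C.Modules} {W : ι → C.Opens} {g : ∀ i j, Γ(C, W i ⊓ W j)}
    (h : Trivs L W g) {v v' : T ⟶ C} (φ : (Scheme.Modules.pullback v).obj L ≅ (Scheme.Modules.pullback v').obj L) :
    Nonempty (Tr (lineOf h) v v') := by
  obtain ⟨-, E, hE, hEg⟩ := (h.pullback v).of_iso φ
  obtain ⟨-, F, hF, hFg⟩ := h.pullback v'
  have key : ∀ i j, ∃ a : Γ(T, v ⁻¹ᵁ W i ⊓ v' ⁻¹ᵁ W j), IsUnit a ∧
      res _ (inf_le_left : v ⁻¹ᵁ W i ⊓ v' ⁻¹ᵁ W j ≤ _) (E i) = a • res _ inf_le_right (F j) :=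
    fun i j => ((hF j).res inf_le_right).exists_unit ((hE i).res inf_le_left)
  choose ψ hψ hψE using key
  refine ⟨{ ψ := ψ, unit := hψ, compat := ?_ }⟩
  intro i i' j j' V hi hi' hj hj'
  have r1 := res_rel inf_le_left inf_le_right (le_inf hi hj) _ _ _ (hψE i j)
  have r2 := res_rel inf_le_left inf_le_right (le_inf hi' hj') _ _ _ (hψE i' j')
  have r3 := res_rel inf_le_left inf_le_right (le_inf hi' hi) _ _ _ (hEg i' i)
  have r4 := res_rel inf_le_left inf_le_right (le_inf hj hj') _ _ _ (hFg j j')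
  have e3 := ores_app v (U := W i' ⊓ W i) (le_inf hi' hi) (g i' i)
  have e4 := ores_app v' (U := W j ⊓ W j') (le_inf hj hj') (g j j')
  have := smul_chain ((hF j').res hj') r1 r2 r3 r4
  refine Eq.trans ?_ this
  exact congrArg₂ (· * ·) (congrArg (· * _) e3.symm) e4.symm

theorem isAmple_tensorPow {X : Scheme.{u}} {L : X.Modules} (hL : CohB1.IsAmple L) {N : ℕ} (hN : 0 < N) :
    CohB1.IsAmple (CohB1.tensorPow L N) := by
  have : CompactSpace X := hL.2.1
  obtain ⟨n, W, g, -, hW⟩ := exists_trivs hL.1 (fun _ ↦ True) (fun U x hx ↦ ⟨U, hx, le_rfl, trivial⟩)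
  rw [(hW.tensorPow N).isAmple_iff]
  refine ⟨this, fun x ↦ ?_⟩
  obtain ⟨m, b, hb, hxb, hba⟩ := (hW.isAmple_iff.1 hL).2 x
  have h1 : ∀ j, X.basicOpen (b j ^ N) = X.basicOpen (b j) := fun j => Scheme.basicOpen_pow _ _ hN
  refine ⟨m, fun j ↦ b j ^ N, fun i j => ?_, ?_, ?_⟩
  · have h2 := congrArg (· ^ N) (hb i j)
    dsimp only at h2 ⊢
    rw [map_pow, map_pow, ← pow_mul, mul_comm N, pow_mul, ← mul_pow]
    exact h2
  · simp only [h1]; exact hxb
  · simp only [h1]; exact hba

/-- `O = f_* O` for proper flat families with geometrically connected and reduced fibres. -/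
theorem isIso_app {X S : Scheme.{u}} (f : X ⟶ S) [IsProper f] [Flat f] [LocallyOfFinitePresentation f]
    [GeometricallyConnected f] [GeometricallyReduced f] (V : S.Opens) : IsIso (f.app V) := by
  refine Groth.Agent.S0981.result f (fun K _ _ g => ?_) V
  have h1 : IsReduced (pullback f g) :=
    GeometricallyReduced.geometrically_isReduced _ _ _ (.of_hasPullback _ _)
  have h2 : ConnectedSpace ↥(pullback f g) :=
    GeometricallyConnected.geometrically_connectedSpace _ _ _ (.of_hasPullback _ _)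
  exact ⟨h1, h2⟩

variable {X S : Scheme.{u}} {p : X ⟶ S} {D : SchDD p}

theorem bijective_q3 [IsProper D.obj.hom] [Flat D.obj.hom] [LocallyOfFinitePresentation D.obj.hom]
    [GeometricallyConnected D.obj.hom] [GeometricallyReduced D.obj.hom] : Function.Bijective (q3 D).appTop := by
  have h1 : IsProper (q3 D) := MorphismProperty.of_isPullback (P := @IsProper) (sqv1 D) inferInstance
  have h2 : Flat (q3 D) := MorphismProperty.of_isPullback (P := @Flat) (sqv1 D) inferInstance
  have h3 : LocallyOfFinitePresentation (q3 D) :=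
    MorphismProperty.of_isPullback (P := @LocallyOfFinitePresentation) (sqv1 D) inferInstance
  have h4 : GeometricallyConnected (q3 D) :=
    MorphismProperty.of_isPullback (P := @GeometricallyConnected) (sqv1 D) inferInstance
  have h5 : GeometricallyReduced (q3 D) :=
    MorphismProperty.of_isPullback (P := @GeometricallyReduced) (sqv1 D) inferInstance
  have h6 := isIso_app (q3 D) ⊤
  exact ConcreteCategory.bijective_of_isIso ((q3 D).app ⊤)

/-- the transport attached to a polarization of the datum -/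
theorem exists_tr_of_polDatum [IsAffine X] [IsAffine S] {L : D.obj.left.Modules} (hP : PolDatum p D L) {ι : Type}
    {W : ι → D.obj.left.Opens} {g : ∀ i j, Γ(D.obj.left, W i ⊓ W j)} (h : Trivs L W g) :
    Nonempty (Tr (lineOf h) (src D) (tgt D)) := by
  obtain ⟨φ⟩ := hP (Z2 p) inferInstance (pullback.fst p p) (pullback.snd p p) pullback.condition (R D) (q2 D) (src D)
    (sq_src D)
  have e : (D.φ (q2 D ≫ pullback.fst p p) (q2 D ≫ pullback.snd p p) (by
      rw [Category.assoc, Category.assoc, pullback.condition]) ⟨src D, (sq_src D).w⟩).1 = tgt D :=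
    Groth.Agent.Desc.SecFunctor.φ_congr D (src_pt D) ⟨src D, rfl⟩ (q2_fst D) (q2_snd D) _ _ rfl
  rw [e] at φ
  exact exists_tr h φ

variable [IsAffine X] [IsAffine S] [Flat p] [Surjective p]

/-- The affine case when the sections of a power of `L` are free of positive rank. -/
theorem effective_of_free [IsProper D.obj.hom] [Flat D.obj.hom] [LocallyOfFinitePresentation D.obj.hom]
    [GeometricallyConnected D.obj.hom] [GeometricallyReduced D.obj.hom]
    {L : D.obj.left.Modules} (hA : CohB1.IsAmple L) (hP : PolDatum p D L) {ι : Type} [Finite ι]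
    {W : ι → D.obj.left.Opens} {g : ∀ i j, Γ(D.obj.left, W i ⊓ W j)} (h : Trivs L W g)
    (hW : ∀ j, IsCompact (W j : Set D.obj.left)) (n : ℕ) (hn : 0 < n) (N : ℕ) (hN : 0 < N)
    (b : Fin N → ((lineOf h).pow n).Sec (𝟙 D.obj.left)) (hb : IsB D.obj.hom.appTop.hom b) :
    ∃ U : Over S, Nonempty ((toDD p).obj U ≅ D) := by
  obtain ⟨Ψ⟩ := exists_tr_of_polDatum hP h
  have hqs : QuasiSeparatedSpace D.obj.left := Groth.Agent.Fdesc.LocGen.quasiSeparatedSpace_of_isAmple hA
  obtain ⟨δ, hδ, hh⟩ := exists_honest (Ψ.pow n) hW bijective_q3.2 hb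
  have hT : Trivs (CohB1.tensorPow L n) ((lineOf h).pow n).W ((lineOf h).pow n).g := h.tensorPow n
  exact effective_of_honest (ℓ := (lineOf h).pow n) hT (isAmple_tensorPow hA hn) hW N hN hh

end K675.Pol
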