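import Groth.Agent.VecBal.K675.Honest
import Groth.Agent.Desc.K388.IndEff

/-!
# Effectivity of a descent datum with an honest descent datum on an ample module
-/

set_option autoImplicit false
universe u

open CategoryTheory CategoryTheory.Limits AlgebraicGeometry TopologicalSpace Opposite

namespace K675.Pol

open Groth.Agent.Fdesc.LocGen Groth.Agent.Flat2H.FamExt Groth.Agent.Flat2H.FamDict Groth.Agent.Flat2H.FamOpen Line
open _root_.Desc K388.DDGrpd Groth.Agent.Desc.StableDD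

variable {X S : Scheme.{u}} {p : X ⟶ S} {D : SchDD p} {ι : Type} {ℓ : Line D.obj.left ι}

/-- The locus where a section does not vanish -/
noncomputable def loc (c : ℓ.Sec (𝟙 D.obj.left)) : D.obj.left.Opens :=
  locus (W := ℓ.W) c.1

theorem mem_loc (c : ℓ.Sec (𝟙 D.obj.left)) (x : D.obj.left) : x ∈ loc c ↔ ∃ j, x ∈ D.obj.left.basicOpen (c.1 j) :=
  mem_locus _ _

theorem isFam_val (c : ℓ.Sec (𝟙 D.obj.left)) : IsFam ℓ.W ℓ.g c.1 := by
  intro i j
  have h := c.2 i j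
  have e : (𝟙 D.obj.left : D.obj.left ⟶ D.obj.left).app (ℓ.W i ⊓ ℓ.W j) (ℓ.g i j) = ℓ.g i j := by
    rw [Scheme.Hom.id_app]; rfl
  dsimp only at h
  rw [e] at h
  exact h

/-- a family as a section -/
noncomputable def ofFam (b : ∀ j, Γ(D.obj.left, ℓ.W j)) (hb : IsFam ℓ.W ℓ.g b) : ℓ.Sec (𝟙 D.obj.left) :=
  ⟨b, fun i j => by
    have e : (𝟙 D.obj.left : D.obj.left ⟶ D.obj.left).app (ℓ.W i ⊓ ℓ.W j) (ℓ.g i j) = ℓ.g i j := by
      rw [Scheme.Hom.id_app]; rfl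
    dsimp only
    rw [e]
    exact hb i j⟩

theorem basicOpen_inf_sec {C T : Scheme.{u}} {ι : Type} {ℓ : Line C ι} {v : T ⟶ C} (c : ℓ.Sec v) (i j : ι) {V : T.Opens}
    (hi : V ≤ v ⁻¹ᵁ ℓ.W i) (hj : V ≤ v ⁻¹ᵁ ℓ.W j) : V ⊓ T.basicOpen (c.1 i) = V ⊓ T.basicOpen (c.1 j) := by
  have h := congrArg T.basicOpen (ℓ.rel c i j hi hj)
  rw [basicOpen_ores_of_isUnit_mul _ _ (ℓ.gg_unit v i j hi hj), basicOpen_res] at h
  exact h

theorem mem_loc_iff (c : ℓ.Sec (𝟙 D.obj.left)) (x : D.obj.left) (i : ι) (hi : x ∈ ℓ.W i) :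
    x ∈ loc c ↔ x ∈ D.obj.left.basicOpen (c.1 i) := by
  rw [mem_loc]
  constructor
  · rintro ⟨j, hj⟩
    have hxj : x ∈ ℓ.W j := (D.obj.left.basicOpen_le _ hj)
    have h := basicOpen_inf_sec c i j (V := ℓ.W i ⊓ ℓ.W j) inf_le_left inf_le_right
    have h2 : x ∈ (ℓ.W i ⊓ ℓ.W j) ⊓ D.obj.left.basicOpen (c.1 j) := ⟨⟨hi, hxj⟩, hj⟩
    rw [← h] at h2
    exact h2.2
  · exact fun h => ⟨i, h⟩

theorem isStable_loc {Ψ : Tr ℓ (src D) (tgt D)} {c : ℓ.Sec (𝟙 D.obj.left)}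
    (hc : Ψ.app (ℓ.pull (src D) (Category.comp_id _) c) = ℓ.pull (tgt D) (Category.comp_id _) c) :
    IsStable D (loc c) := by
  rw [isStable_iff]
  ext r
  obtain ⟨i, hi⟩ := ℓ.cover (src D) r
  obtain ⟨j, hj⟩ := ℓ.cover (tgt D) r
  change src D r ∈ loc c ↔ tgt D r ∈ loc c
  rw [mem_loc_iff c _ i hi, mem_loc_iff c _ j hj]
  let V : (R D).Opens := src D ⁻¹ᵁ ℓ.W i ⊓ tgt D ⁻¹ᵁ ℓ.W j
  have hV : r ∈ V := ⟨hi, hj⟩
  have h1 := congrArg (R D).basicOpen (Ψ.app_rel (ℓ.pull (src D) (Category.comp_id _) c) i j (V := V) inf_le_left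
    inf_le_right)
  rw [hc, basicOpen_ores_of_isUnit_mul _ _ (Ψ.el_unit i j _ _), basicOpen_res, pull_val, pull_val, pb_basicOpen,
    pb_basicOpen] at h1
  have h2 : r ∈ V ⊓ (tgt D ⁻¹ᵁ ℓ.W j ⊓ tgt D ⁻¹ᵁ D.obj.left.basicOpen (c.1 j)) ↔
      r ∈ V ⊓ (src D ⁻¹ᵁ ℓ.W i ⊓ src D ⁻¹ᵁ D.obj.left.basicOpen (c.1 i)) := by
    rw [show V ⊓ (tgt D ⁻¹ᵁ ℓ.W j ⊓ tgt D ⁻¹ᵁ D.obj.left.basicOpen (c.1 j)) =
      V ⊓ (src D ⁻¹ᵁ ℓ.W i ⊓ src D ⁻¹ᵁ D.obj.left.basicOpen (c.1 i)) from h1]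
  constructor
  · intro h
    exact (h2.2 ⟨hV, hi, h⟩).2.2
  · intro h
    exact (h2.1 ⟨hV, hj, h⟩).2.2

theorem Tr.IsHonest.pow {Ψ : Tr ℓ (src D) (tgt D)} (h : Ψ.IsHonest) (n : ℕ) : (Ψ.pow n).IsHonest := by
  have h1 := Comp.pow h n
  intro i j l V hi hj hl
  have h2 := h1 i j l hi hj hl
  rw [one_pow] at h2
  refine Eq.trans ?_ (h2.trans ?_)
  · congr 1
    · change ores _ (pb _ _ (_ ^ n)) = ores _ (pb _ _ _ ^ n)
      rw [map_pow, map_pow]
    · change ores _ (pb _ _ (_ ^ n)) = ores _ (pb _ _ _ ^ n)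
      rw [map_pow, map_pow]
  · congr 1
    change ores _ (pb _ _ _ ^ n) = ores _ (pb _ _ (_ ^ n))
    exact congrArg (ores _) (map_pow _ _ _).symm

/-- A morphism from a quasi-affine scheme is ind-quasi-affine. -/
theorem indHom_of_isQuasiAffine {Y Z : Scheme.{u}} (f : Y ⟶ Z) (h : Y.IsQuasiAffine) : MoreMor.IsIndQuasiAffineHom f := by
  rw [Groth.Agent.Flat2F.QuasiAffine.indHom_iff]
  intro V _ U _ hUc
  exact Groth.Agent.Flat2F.QuasiAffine.opens_of_le le_top hUc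
    (Groth.Agent.Flat2F.QuasiAffine.opens_top_iff.mpr h)

/-- A descent datum with an honest descent datum on a power of an ample module is effective. -/
theorem effective_of_honest [IsAffine X] [IsAffine S] [Flat p] [Surjective p] [Finite ι] {L : D.obj.left.Modules}
    (hT : Trivs L ℓ.W ℓ.g) (hA : CohB1.IsAmple L) (hW : ∀ j, IsCompact (ℓ.W j : Set D.obj.left)) (a : ℕ) (ha : 0 < a)
    {Ψ : Tr (ℓ.pow a) (src D) (tgt D)} (hΨ : Ψ.IsHonest) :
    ∃ U : Over S, Nonempty ((toDD p).obj U ≅ D) := by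
  have h8 : (toDD p).Full := Groth.Agent.Desc.AffineEff.toDD_full p
  have h9 : (toDD p).Faithful := Groth.Agent.Desc.AffineEff.toDD_faithful p
  have hq : ∀ T : Over S, Topology.IsQuotientMap (pullback.snd p T.hom).base :=
    fun T => Flat.isQuotientMap_of_surjective _
  have hqs : QuasiSeparatedSpace D.obj.left := Groth.Agent.Fdesc.LocGen.quasiSeparatedSpace_of_isAmple hA
  have key : ∀ x : D.obj.left, ∃ U : D.obj.left.Opens, x ∈ U ∧ IsStable D U ∧ (U : Scheme.{u}).IsQuasiAffine := by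
    intro x
    obtain ⟨n, b, hb, hxb, -⟩ := (hT.isAmple_iff.1 hA).2 x
    have hb' : IsFam ℓ.W ((ℓ.pow a).pow (n + 1)).g (fun j => b j ^ a) := by
      intro i j
      have h1 := congrArg (· ^ a) (hb i j)
      dsimp only at h1 ⊢
      rw [map_pow, map_pow, ← pow_mul, mul_comm a, pow_mul, ← mul_pow]
      exact h1
    obtain ⟨j, hj⟩ := Opens.mem_iSup.1 hxb
    have h3 : ∀ c : ((ℓ.pow a).pow (n + 1)).Sec (𝟙 D.obj.left), x ∈ D.obj.left.basicOpen (c.1 j) →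
        ∃ m : ((ℓ.pow a).pow (n + 1)).Sec (𝟙 D.obj.left), (Ψ.pow (n + 1)).app (Line.pull _ (src D) (Category.comp_id _) m) =
          Line.pull _ (tgt D) (Category.comp_id _) m ∧ x ∈ D.obj.left.basicOpen (m.1 j) := by
      intro c
      refine Tr.IsHonest.induction (hΨ.pow (n + 1)) hW
        (fun c => x ∈ D.obj.left.basicOpen (c.1 j) → ∃ m : ((ℓ.pow a).pow (n + 1)).Sec (𝟙 D.obj.left),
          (Ψ.pow (n + 1)).app (Line.pull _ (src D) (Category.comp_id _) m) =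
          Line.pull _ (tgt D) (Category.comp_id _) m ∧ x ∈ D.obj.left.basicOpen (m.1 j)) ?_ ?_ ?_ ?_ c
      · intro h
        rw [zero_val] at h
        rw [Scheme.basicOpen_zero] at h
        exact h.elim
      · intro c d hc hd h
        have h' : x ∈ D.obj.left.basicOpen (c.1 j) ∨ x ∈ D.obj.left.basicOpen (d.1 j) := by
          have hx : x ∈ (𝟙 D.obj.left) ⁻¹ᵁ ℓ.W j := D.obj.left.basicOpen_le _ h
          rw [Scheme.mem_basicOpen _ _ _ hx] at h ⊢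
          rw [Scheme.mem_basicOpen _ _ _ hx]
          rw [add_val, map_add] at h
          exact IsLocalRing.isUnit_or_isUnit_of_isUnit_add h
        exact h'.elim hc hd
      · intro s c hc h
        refine hc ?_
        rw [smul_val, Scheme.basicOpen_mul] at h
        exact h.2
      · intro m hm h
        exact ⟨m, hm, h⟩
    obtain ⟨m, hm, hxm⟩ := h3 (ofFam (ℓ := (ℓ.pow a).pow (n + 1)) _ hb') (by
      change x ∈ D.obj.left.basicOpen (b j ^ a)
      rw [Scheme.basicOpen_pow _ _ ha]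
      exact hj)
    refine ⟨loc m, (mem_loc m x).2 ⟨j, hxm⟩, isStable_loc hm, ?_⟩
    obtain ⟨k, hk⟩ : ∃ k, a * (n + 1) = k + 1 := ⟨a * (n + 1) - 1, by
      have : 0 < a * (n + 1) := Nat.mul_pos ha (Nat.succ_pos n)
      omega⟩
    refine Groth.Agent.Desc.AmpleDesc.isQuasiAffine_of_isFam hT hA k m.1 ?_
    intro i j
    have h4 := isFam_val m i j
    refine Eq.trans ?_ h4
    rw [← hk]
    exact congrArg (ores inf_le_left (m.1 i) * ·) (pow_mul _ _ _)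
  choose U hxU hU hUq using key
  refine effective_of_cover D hq U hU (fun v => ⟨v, hxU v⟩) fun v => ?_
  exact K388.IndEff.effective_of_affine _ (indHom_of_isQuasiAffine _ (hUq v))

end K675.Pol
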