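import Groth.Agent.VecBal.K675.Line

/-!
# Transports between the pullbacks of a line bundle along two morphisms
-/

set_option autoImplicit false
universe u

open CategoryTheory CategoryTheory.Limits AlgebraicGeometry TopologicalSpace Opposite

namespace K675.Pol

open Groth.Agent.Fdesc.LocGen Groth.Agent.Flat2H.FamExt Line

variable {C T T' : Scheme.{u}} {ι : Type}

/-- An isomorphism between the pullbacks of the line bundle `ℓ` along `v` and `v'`. -/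
structure Tr (ℓ : Line C ι) (v v' : T ⟶ C) where
  ψ : ∀ i j, Γ(T, v ⁻¹ᵁ ℓ.W i ⊓ v' ⁻¹ᵁ ℓ.W j)
  unit : ∀ i j, IsUnit (ψ i j)
  compat : ∀ (i i' j j' : ι) {V : T.Opens} (hi : V ≤ v ⁻¹ᵁ ℓ.W i) (hi' : V ≤ v ⁻¹ᵁ ℓ.W i')
    (hj : V ≤ v' ⁻¹ᵁ ℓ.W j) (hj' : V ≤ v' ⁻¹ᵁ ℓ.W j'),
    ℓ.gg v i' i hi' hi * ores (le_inf hi hj) (ψ i j) * ℓ.gg v' j j' hj hj' = ores (le_inf hi' hj') (ψ i' j')

namespace Tr

variable {ℓ : Line C ι} {v v' : T ⟶ C} (Ψ : Tr ℓ v v')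

/-- The transition unit, restricted -/
noncomputable def el (i j : ι) {V : T.Opens} (hi : V ≤ v ⁻¹ᵁ ℓ.W i) (hj : V ≤ v' ⁻¹ᵁ ℓ.W j) : Γ(T, V) :=
  ores (le_inf hi hj) (Ψ.ψ i j)

theorem el_unit (i j : ι) {V : T.Opens} (hi : V ≤ v ⁻¹ᵁ ℓ.W i) (hj : V ≤ v' ⁻¹ᵁ ℓ.W j) : IsUnit (Ψ.el i j hi hj) :=
  (Ψ.unit i j).map _

theorem ores_el (i j : ι) {V V' : T.Opens} (h : V' ≤ V) (hi : V ≤ v ⁻¹ᵁ ℓ.W i) (hj : V ≤ v' ⁻¹ᵁ ℓ.W j) :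
    ores h (Ψ.el i j hi hj) = Ψ.el i j (h.trans hi) (h.trans hj) := ores_ores _ _ _

theorem el_compat (i i' j j' : ι) {V : T.Opens} (hi : V ≤ v ⁻¹ᵁ ℓ.W i) (hi' : V ≤ v ⁻¹ᵁ ℓ.W i')
    (hj : V ≤ v' ⁻¹ᵁ ℓ.W j) (hj' : V ≤ v' ⁻¹ᵁ ℓ.W j') :
    ℓ.gg v i' i hi' hi * Ψ.el i j hi hj * ℓ.gg v' j j' hj hj' = Ψ.el i' j' hi' hj' :=
  Ψ.compat i i' j j' hi hi' hj hj'

theorem exists_app (c : ℓ.Sec v) : ∃ c' : ℓ.Sec v', ∀ (i j : ι) {V : T.Opens} (hi : V ≤ v ⁻¹ᵁ ℓ.W i)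
    (hj : V ≤ v' ⁻¹ᵁ ℓ.W j), ores hj (c'.1 j) = ores hi (c.1 i) * Ψ.el i j hi hj := by
  have key : ∀ j, ∃ t : Γ(T, v' ⁻¹ᵁ ℓ.W j), ∀ (i : ι) {V' : T.Opens} (hV : V' ≤ v' ⁻¹ᵁ ℓ.W j) (hi : V' ≤ v ⁻¹ᵁ ℓ.W i),
      ores hV t = ores hi (c.1 i) * Ψ.el i j hi hV := by
    intro j
    obtain ⟨t, ht⟩ := ℓ.glue_of_cover v (V := v' ⁻¹ᵁ ℓ.W j)
      (fun i => ores inf_le_right (c.1 i) * Ψ.el i j inf_le_right inf_le_left) (by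
        intro i i' V' hV hi hi'
        rw [map_mul, map_mul, ores_ores, ores_ores, ores_el, ores_el, ← ℓ.rel c i' i hi' hi,
          ← Ψ.el_compat i i' j j hi hi' hV hV, ℓ.gg_self, mul_one, mul_assoc])
    refine ⟨t, fun i V' hV hi => ?_⟩
    rw [ht i hV hi, map_mul, ores_ores, ores_el]
  choose t ht using key
  refine ⟨ℓ.mkSec v' t fun j j' V hj hj' => ?_, fun i j V hi hj => ht j i hj hi⟩
  refine ℓ.ext_of_cover v fun i V' hV hi => ?_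
  rw [map_mul, ores_ores, ores_ores, ht j i (hV.trans hj) hi, ht j' i (hV.trans hj') hi, ores_gg,
    ← Ψ.el_compat i i j j' hi hi (hV.trans hj) (hV.trans hj'), ℓ.gg_self, one_mul, mul_assoc]

theorem sec_ext' {c c' : ℓ.Sec v'} (v : T ⟶ C) (h : ∀ (i j : ι) {V : T.Opens} (_ : V ≤ v ⁻¹ᵁ ℓ.W i)
    (hj : V ≤ v' ⁻¹ᵁ ℓ.W j), ores hj (c.1 j) = ores hj (c'.1 j)) : c = c' :=
  ℓ.sec_ext fun j => ℓ.ext_of_cover v fun i _ hV hi => h i j hi hV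

/-- transport of sections -/
noncomputable def app : ℓ.Sec v →ₗ[Γ(T, ⊤)] ℓ.Sec v' where
  toFun c := (Ψ.exists_app c).choose
  map_add' c d := by
    refine sec_ext' v fun i j V hi hj => ?_
    rw [(Ψ.exists_app (c + d)).choose_spec i j hi hj, add_val, add_val, map_add, map_add,
      (Ψ.exists_app c).choose_spec i j hi hj, (Ψ.exists_app d).choose_spec i j hi hj, add_mul]
  map_smul' s c := by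
    refine sec_ext' v fun i j V hi hj => ?_
    rw [(Ψ.exists_app (s • c)).choose_spec i j hi hj, RingHom.id_apply, smul_val, smul_val, map_mul, map_mul,
      (Ψ.exists_app c).choose_spec i j hi hj, mul_assoc, ores_ores, ores_ores]

theorem app_rel (c : ℓ.Sec v) (i j : ι) {V : T.Opens} (hi : V ≤ v ⁻¹ᵁ ℓ.W i) (hj : V ≤ v' ⁻¹ᵁ ℓ.W j) :
    ores hj ((Ψ.app c).1 j) = ores hi (c.1 i) * Ψ.el i j hi hj := (Ψ.exists_app c).choose_spec i j hi hj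

theorem app_eq_of (c : ℓ.Sec v) (c' : ℓ.Sec v') (h : ∀ (i j : ι) {V : T.Opens} (hi : V ≤ v ⁻¹ᵁ ℓ.W i)
    (hj : V ≤ v' ⁻¹ᵁ ℓ.W j), ores hj (c'.1 j) = ores hi (c.1 i) * Ψ.el i j hi hj) : Ψ.app c = c' :=
  sec_ext' v fun i j V hi hj => by rw [app_rel Ψ c i j hi hj, h]

/-- The inverse transport. -/
noncomputable def symm : Tr ℓ v' v where
  ψ j i := ores (le_of_eq (inf_comm _ _)) ((Ψ.unit i j).unit⁻¹ : Γ(T, v ⁻¹ᵁ ℓ.W i ⊓ v' ⁻¹ᵁ ℓ.W j)ˣ).1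
  unit j i := (Units.isUnit _).map _
  compat j j' i i' V hj hj' hi hi' := by
    have h1 : ∀ (i j : ι) (hi : V ≤ v ⁻¹ᵁ ℓ.W i) (hj : V ≤ v' ⁻¹ᵁ ℓ.W j),
        ores (le_inf hi hj) (Ψ.ψ i j) * ores (le_inf hj hi)
          (ores (le_of_eq (inf_comm _ _)) ((Ψ.unit i j).unit⁻¹ : Γ(T, v ⁻¹ᵁ ℓ.W i ⊓ v' ⁻¹ᵁ ℓ.W j)ˣ).1) = 1 := by
      intro i j hi hj
      rw [ores_ores, ← map_mul, IsUnit.mul_val_inv, map_one]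
    have h2 := h1 i j hi hj
    have h3 := h1 i' j' hi' hj'
    have h4 := Ψ.compat i i' j j' hi hi' hj hj'
    have h5 := ℓ.gg_symm v i i' hi hi'
    have h6 := ℓ.gg_symm v' j j' hj hj'
    have hu : IsUnit (ores (le_inf hi' hj') (Ψ.ψ i' j')) := (Ψ.unit i' j').map _
    refine hu.mul_left_cancel ?_
    rw [h3]
    calc _ = (ℓ.gg v i i' hi hi' * ℓ.gg v i' i hi' hi) * (ℓ.gg v' j j' hj hj' * ℓ.gg v' j' j hj' hj) *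
        (ores (le_inf hi hj) (Ψ.ψ i j) * ores (le_inf hj hi)
          (ores (le_of_eq (inf_comm _ _)) ((Ψ.unit i j).unit⁻¹ : Γ(T, v ⁻¹ᵁ ℓ.W i ⊓ v' ⁻¹ᵁ ℓ.W j)ˣ).1)) := by
          rw [← h4]; ring
      _ = 1 := by rw [h5, h6, h2, mul_one, mul_one]

theorem el_symm (i j : ι) {V : T.Opens} (hi : V ≤ v ⁻¹ᵁ ℓ.W i) (hj : V ≤ v' ⁻¹ᵁ ℓ.W j) :
    Ψ.el i j hi hj * Ψ.symm.el j i hj hi = 1 := by
  change ores _ _ * ores _ (ores _ _) = 1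
  rw [ores_ores, ← map_mul, IsUnit.mul_val_inv, map_one]

theorem symm_app_app (c : ℓ.Sec v) : Ψ.symm.app (Ψ.app c) = c :=
  Ψ.symm.app_eq_of _ _ fun j i V hj hi => by
    rw [Ψ.app_rel c i j hi hj, mul_assoc, el_symm, mul_one]

theorem app_symm_app (c : ℓ.Sec v') : Ψ.app (Ψ.symm.app c) = c :=
  Ψ.app_eq_of _ _ fun i j V hi hj => by
    rw [Ψ.symm.app_rel c j i hj hi, mul_assoc, mul_comm (Ψ.symm.el j i hj hi), el_symm, mul_one]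

theorem app_bijective : Function.Bijective Ψ.app :=
  ⟨fun c d h => by rw [← Ψ.symm_app_app c, h, symm_app_app], fun c => ⟨Ψ.symm.app c, Ψ.app_symm_app c⟩⟩

/-- pullback of transports -/
noncomputable def pull (h : T' ⟶ T) {w w' : T' ⟶ C} (hw : h ≫ v = w) (hw' : h ≫ v' = w') : Tr ℓ w w' where
  ψ i j := pb h (by rw [← hw, ← hw']; rfl) (Ψ.ψ i j)
  unit i j := (Ψ.unit i j).map _
  compat i i' j j' V hi hi' hj hj' := by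
    subst hw hw'
    have h1 := congrArg (pb h (U := v ⁻¹ᵁ ℓ.W i ⊓ v ⁻¹ᵁ ℓ.W i' ⊓ (v' ⁻¹ᵁ ℓ.W j ⊓ v' ⁻¹ᵁ ℓ.W j')) (V := V)
      (le_inf (le_inf hi hi') (le_inf hj hj'))) (Ψ.compat i i' j j'
      (V := v ⁻¹ᵁ ℓ.W i ⊓ v ⁻¹ᵁ ℓ.W i' ⊓ (v' ⁻¹ᵁ ℓ.W j ⊓ v' ⁻¹ᵁ ℓ.W j'))
      (inf_le_left.trans inf_le_left) (inf_le_left.trans inf_le_right) (inf_le_right.trans inf_le_left)
      (inf_le_right.trans inf_le_right))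
    rw [map_mul, map_mul, pb_ores, pb_ores, ℓ.pb_gg v h rfl i' i _ _ _ hi' hi, ℓ.pb_gg v' h rfl j j' _ _ _ hj hj'] at h1
    rw [ores_pb, ores_pb]
    exact h1

theorem pull_el (h : T' ⟶ T) {w w' : T' ⟶ C} (hw : h ≫ v = w) (hw' : h ≫ v' = w') (i j : ι)
    {V' : T'.Opens} {V : T.Opens} (hi : V ≤ v ⁻¹ᵁ ℓ.W i) (hj : V ≤ v' ⁻¹ᵁ ℓ.W j) (hV : V' ≤ h ⁻¹ᵁ V)
    (hi' : V' ≤ w ⁻¹ᵁ ℓ.W i) (hj' : V' ≤ w' ⁻¹ᵁ ℓ.W j) :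
    (Ψ.pull h hw hw').el i j hi' hj' = pb h hV (Ψ.el i j hi hj) := by
  change ores _ (pb h _ _) = pb h _ (ores _ _)
  rw [ores_pb, pb_ores]

theorem pull_app (h : T' ⟶ T) {w w' : T' ⟶ C} (hw : h ≫ v = w) (hw' : h ≫ v' = w') (c : ℓ.Sec v) :
    (Ψ.pull h hw hw').app (ℓ.pull h hw c) = ℓ.pull h hw' (Ψ.app c) := by
  subst hw hw'
  refine (Ψ.pull h rfl rfl).app_eq_of _ _ fun i j V hi hj => ?_
  rw [pull_val, pull_val, ores_pb, ores_pb, Ψ.pull_el h rfl rfl i j (V := v ⁻¹ᵁ ℓ.W i ⊓ v' ⁻¹ᵁ ℓ.W j) inf_le_left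
    inf_le_right (le_inf hi hj)]
  have h1 := congrArg (pb h (U := v ⁻¹ᵁ ℓ.W i ⊓ v' ⁻¹ᵁ ℓ.W j) (V := V) (le_inf hi hj)) (Ψ.app_rel c i j (V := v ⁻¹ᵁ ℓ.W i ⊓ v' ⁻¹ᵁ ℓ.W j) inf_le_left
    inf_le_right)
  rw [map_mul, pb_ores, pb_ores] at h1
  exact h1

/-- powers -/
noncomputable def pow (n : ℕ) : Tr (ℓ.pow n) v v' where
  ψ i j := Ψ.ψ i j ^ n
  unit i j := (Ψ.unit i j).pow n
  compat i i' j j' V hi hi' hj hj' := by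
    rw [gg_pow, gg_pow, map_pow, map_pow, ← mul_pow, ← mul_pow]
    exact congrArg (· ^ n) (Ψ.compat i i' j j' hi hi' hj hj')

theorem pow_el (n : ℕ) (i j : ι) {V : T.Opens} (hi : V ≤ v ⁻¹ᵁ ℓ.W i) (hj : V ≤ v' ⁻¹ᵁ ℓ.W j) :
    (Ψ.pow n).el i j hi hj = Ψ.el i j hi hj ^ n := map_pow _ _ _

/-- multiplication by a unit -/
noncomputable def smul (d : Γ(T, ⊤)) (hd : IsUnit d) : Tr ℓ v v' where
  ψ i j := ores le_top d * Ψ.ψ i j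
  unit i j := (hd.map _).mul (Ψ.unit i j)
  compat i i' j j' V hi hi' hj hj' := by
    rw [map_mul, map_mul, ores_ores, ores_ores, ← Ψ.compat i i' j j' hi hi' hj hj']
    ring

theorem smul_el (d : Γ(T, ⊤)) (hd : IsUnit d) (i j : ι) {V : T.Opens} (hi : V ≤ v ⁻¹ᵁ ℓ.W i)
    (hj : V ≤ v' ⁻¹ᵁ ℓ.W j) : (Ψ.smul d hd).el i j hi hj = ores le_top d * Ψ.el i j hi hj := by
  change ores _ (ores _ _ * _) = _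
  rw [map_mul, ores_ores]
  rfl

theorem smul_app (d : Γ(T, ⊤)) (hd : IsUnit d) (c : ℓ.Sec v) : (Ψ.smul d hd).app c = d • Ψ.app c :=
  (Ψ.smul d hd).app_eq_of _ _ fun i j V hi hj => by
    rw [smul_val, map_mul, ores_ores, Ψ.app_rel c i j hi hj, smul_el]
    ring

/-- `Ψ₂₃ ∘ Ψ₁₂ = u Ψ₁₃` -/
def Comp {v₁ v₂ v₃ : T ⟶ C} (Ψ₁₂ : Tr ℓ v₁ v₂) (Ψ₂₃ : Tr ℓ v₂ v₃) (Ψ₁₃ : Tr ℓ v₁ v₃) (u : Γ(T, ⊤)) : Prop :=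
  ∀ (i j l : ι) {V : T.Opens} (hi : V ≤ v₁ ⁻¹ᵁ ℓ.W i) (hj : V ≤ v₂ ⁻¹ᵁ ℓ.W j) (hl : V ≤ v₃ ⁻¹ᵁ ℓ.W l),
    Ψ₁₂.el i j hi hj * Ψ₂₃.el j l hj hl = ores le_top u * Ψ₁₃.el i l hi hl

variable {v₁ v₂ v₃ : T ⟶ C} {Ψ₁₂ : Tr ℓ v₁ v₂} {Ψ₂₃ : Tr ℓ v₂ v₃} {Ψ₁₃ : Tr ℓ v₁ v₃}

theorem isUnit_of_local {u : Γ(T, ⊤)} (h : ∀ x : T, ∃ V : T.Opens, x ∈ V ∧ IsUnit (ores (le_top : V ≤ ⊤) u)) :
    IsUnit u := by
  have h1 : (⊤ : T.Opens) ≤ T.basicOpen u := by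
    intro x _
    obtain ⟨V, hx, hV⟩ := h x
    exact le_basicOpen_of_isUnit u le_top hV hx
  have h2 := isUnit_res_basicOpen u le_rfl h1
  rwa [ores_refl] at h2

theorem exists_comp (Ψ₁₂ : Tr ℓ v₁ v₂) (Ψ₂₃ : Tr ℓ v₂ v₃) (Ψ₁₃ : Tr ℓ v₁ v₃) :
    ∃ u : Γ(T, ⊤), IsUnit u ∧ Comp Ψ₁₂ Ψ₂₃ Ψ₁₃ u := by
  let O : ι × ι × ι → T.Opens := fun a => v₁ ⁻¹ᵁ ℓ.W a.1 ⊓ v₂ ⁻¹ᵁ ℓ.W a.2.1 ⊓ v₃ ⁻¹ᵁ ℓ.W a.2.2
  have h1 : ∀ a, O a ≤ v₁ ⁻¹ᵁ ℓ.W a.1 := fun a => inf_le_left.trans inf_le_left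
  have h2 : ∀ a, O a ≤ v₂ ⁻¹ᵁ ℓ.W a.2.1 := fun a => inf_le_left.trans inf_le_right
  have h3 : ∀ a, O a ≤ v₃ ⁻¹ᵁ ℓ.W a.2.2 := fun a => inf_le_right
  have hO : ∀ x : T, ∃ a, x ∈ O a := by
    intro x
    obtain ⟨i, hi⟩ := ℓ.cover v₁ x
    obtain ⟨j, hj⟩ := ℓ.cover v₂ x
    obtain ⟨l, hl⟩ := ℓ.cover v₃ x
    exact ⟨(i, j, l), ⟨⟨hi, hj⟩, hl⟩⟩
  obtain ⟨u, hu⟩ := ores_glue (V := ⊤) O (fun _ => le_top) (fun x _ => Opens.mem_iSup.2 (hO x))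
    (fun a => Ψ₁₂.el a.1 a.2.1 (h1 a) (h2 a) * Ψ₂₃.el a.2.1 a.2.2 (h2 a) (h3 a) *
      Ψ₁₃.symm.el a.2.2 a.1 (h3 a) (h1 a)) (by
    intro a b
    simp only [map_mul, ores_el]
    have p1 : O a ⊓ O b ≤ _ := inf_le_left.trans (h1 a)
    have p2 : O a ⊓ O b ≤ _ := inf_le_left.trans (h2 a)
    have p3 : O a ⊓ O b ≤ _ := inf_le_left.trans (h3 a)
    have q1 : O a ⊓ O b ≤ _ := inf_le_right.trans (h1 b)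
    have q2 : O a ⊓ O b ≤ _ := inf_le_right.trans (h2 b)
    have q3 : O a ⊓ O b ≤ _ := inf_le_right.trans (h3 b)
    rw [← Ψ₁₂.el_compat a.1 b.1 a.2.1 b.2.1 p1 q1 p2 q2, ← Ψ₂₃.el_compat a.2.1 b.2.1 a.2.2 b.2.2 p2 q2 p3 q3,
      ← Ψ₁₃.symm.el_compat a.2.2 b.2.2 a.1 b.1 p3 q3 p1 q1]
    have e1 := ℓ.gg_symm v₁ a.1 b.1 p1 q1
    have e2 := ℓ.gg_symm v₂ a.2.1 b.2.1 p2 q2
    have e3 := ℓ.gg_symm v₃ a.2.2 b.2.2 p3 q3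
    symm
    calc _ = (ℓ.gg v₁ a.1 b.1 p1 q1 * ℓ.gg v₁ b.1 a.1 q1 p1) * (ℓ.gg v₂ a.2.1 b.2.1 p2 q2 * ℓ.gg v₂ b.2.1 a.2.1 q2 p2) *
          (ℓ.gg v₃ a.2.2 b.2.2 p3 q3 * ℓ.gg v₃ b.2.2 a.2.2 q3 p3) * (Ψ₁₂.el a.1 a.2.1 p1 p2 *
          Ψ₂₃.el a.2.1 a.2.2 p2 p3 * Ψ₁₃.symm.el a.2.2 a.1 p3 p1) := by ring
      _ = _ := by rw [e1, e2, e3, one_mul, one_mul, one_mul])
  refine ⟨u, isUnit_of_local fun x => ?_, fun i j l V hi hj hl => ?_⟩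
  · obtain ⟨a, ha⟩ := hO x
    refine ⟨O a, ha, ?_⟩
    rw [hu a]
    exact ((Ψ₁₂.el_unit _ _ _ _).mul (Ψ₂₃.el_unit _ _ _ _)).mul (Ψ₁₃.symm.el_unit _ _ _ _)
  · have h4 := congrArg (ores (le_inf (le_inf hi hj) hl : V ≤ O (i, j, l))) (hu (i, j, l))
    rw [ores_ores, map_mul, map_mul, ores_el, ores_el, ores_el] at h4
    rw [h4]
    have h5 := Ψ₁₃.el_symm i l hi hl
    calc _ = Ψ₁₂.el i j hi hj * Ψ₂₃.el j l hj hl * (Ψ₁₃.el i l hi hl * Ψ₁₃.symm.el l i hl hi) := by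
          rw [h5, mul_one]
      _ = _ := by ring

theorem Comp.app {u : Γ(T, ⊤)} (h : Comp Ψ₁₂ Ψ₂₃ Ψ₁₃ u) (c : ℓ.Sec v₁) : Ψ₂₃.app (Ψ₁₂.app c) = u • Ψ₁₃.app c := by
  refine Ψ₂₃.app_eq_of _ _ fun j l V hj hl => ℓ.ext_of_cover v₁ fun i V' hV hi => ?_
  rw [smul_val, map_mul, map_mul, map_mul, ores_ores, ores_ores, ores_ores, ores_ores, ores_el,
    Ψ₁₃.app_rel c i l hi (hV.trans hl), Ψ₁₂.app_rel c i j hi (hV.trans hj), mul_assoc,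
    h i j l hi (hV.trans hj) (hV.trans hl)]
  ring

theorem Comp.pow {u : Γ(T, ⊤)} (h : Comp Ψ₁₂ Ψ₂₃ Ψ₁₃ u) (n : ℕ) : Comp (Ψ₁₂.pow n) (Ψ₂₃.pow n) (Ψ₁₃.pow n) (u ^ n) :=
  fun i j l V hi hj hl => by
    rw [pow_el, pow_el, pow_el, ← mul_pow, map_pow, ← mul_pow, h i j l hi hj hl]

theorem Comp.smul {u u' d₁₂ d₂₃ d₁₃ : Γ(T, ⊤)} (h : Comp Ψ₁₂ Ψ₂₃ Ψ₁₃ u) (h₁₂ : IsUnit d₁₂) (h₂₃ : IsUnit d₂₃)
    (h₁₃ : IsUnit d₁₃) (hu : d₁₂ * d₂₃ * u = u' * d₁₃) : Comp (Ψ₁₂.smul d₁₂ h₁₂) (Ψ₂₃.smul d₂₃ h₂₃) (Ψ₁₃.smul d₁₃ h₁₃) u' :=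
  fun i j l V hi hj hl => by
    rw [smul_el, smul_el, smul_el]
    have h1 := congrArg (ores (le_top : V ≤ ⊤)) hu
    rw [map_mul, map_mul, map_mul] at h1
    calc _ = (ores le_top d₁₂ * ores le_top d₂₃) * (Ψ₁₂.el i j hi hj * Ψ₂₃.el j l hj hl) := by ring
      _ = ores le_top u' * (ores le_top d₁₃ * Ψ₁₃.el i l hi hl) := by
        rw [h i j l hi hj hl, ← mul_assoc, h1, mul_assoc]

end Tr

end K675.Pol
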